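import Mathlib
import Cfsg.Agent.H584.TwoCore

/-!
# Alternating groups do not have at most two classes of non-nilpotent maximal subgroups
-/

set_option autoImplicit false
open scoped Pointwise

namespace Cfsg.Agent.H584.TwoAlt

open Cfsg.Agent.H580.Two Cfsg.Agent.H584.TwoCore MulAction

universe u v

/-- transport -/
theorem twoMax_congr {G : Type u} {H : Type v} [Group G] [Group H] (e : G ≃* H) (h : TwoMax G) : TwoMax H := by
  obtain ⟨M₁, M₂, hM⟩ := h
  have key : ∀ (c : G) (N M : Subgroup G), M = MulAut.conj c • N →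
      M.map e.toMonoidHom = MulAut.conj (e c) • N.map e.toMonoidHom := by
    intro c N M h
    rw [h]
    ext x
    rw [Subgroup.mem_smul_pointwise_iff_exists]
    constructor
    · rintro ⟨y, hy, rfl⟩
      obtain ⟨z, hz, rfl⟩ := Subgroup.mem_smul_pointwise_iff_exists _ _ _ |>.1 hy
      refine ⟨e z, ⟨z, hz, rfl⟩, ?_⟩
      simp [MulAut.smul_def]
    · rintro ⟨_, ⟨z, hz, rfl⟩, rfl⟩
      refine ⟨c * z * c⁻¹, (Subgroup.mem_smul_pointwise_iff_exists _ _ _).2 ⟨z, hz, rfl⟩, ?_⟩
      simp [MulAut.smul_def]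
  refine ⟨M₁.map e.toMonoidHom, M₂.map e.toMonoidHom, fun M hMc hMn => ?_⟩
  have hmm : (M.comap e.toMonoidHom).map e.toMonoidHom = M :=
    Subgroup.map_comap_eq_self_of_surjective e.surjective M
  have h1 : IsCoatom (M.comap e.toMonoidHom) := by
    refine ⟨fun h => hMc.1 ?_, fun L hL => ?_⟩
    · rw [← hmm, h, ← MonoidHom.range_eq_map]
      exact MonoidHom.range_eq_top.2 e.surjective
    · have h1 : M < L.map e.toMonoidHom := by
        rw [← hmm]
        exact (Subgroup.map_lt_map_iff_of_injective e.injective).2 hL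
      have h2 := hMc.2 _ h1
      have h3 : (L.map e.toMonoidHom).comap e.toMonoidHom = L :=
        Subgroup.comap_map_eq_self_of_injective e.injective L
      rw [← h3, h2, Subgroup.comap_top]
  have h2 : ¬ Group.IsNilpotent (M.comap e.toMonoidHom) := by
    intro h
    apply hMn
    have e1 : M.comap e.toMonoidHom ≃* M :=
      ((M.comap e.toMonoidHom).equivMapOfInjective e.toMonoidHom e.injective).trans (MulEquiv.subgroupCongr hmm)
    exact (Group.isNilpotent_congr e1).1 h
  obtain ⟨c, hc⟩ := hM (M.comap e.toMonoidHom) h1 h2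
  refine ⟨e c, hc.imp (fun h => ?_) fun h => ?_⟩
  · rw [← key c _ _ h, hmm]
  · rw [← key c _ _ h, hmm]

/-- the stabilizer of a `k`-subset -/
theorem exists_stab {n : ℕ} (k : ℕ) (hk : 1 ≤ k) (hk3 : k ≤ 3) (hn : 7 ≤ n) :
    ∃ M : Subgroup (alternatingGroup (Fin n)), IsCoatom M ∧ M.index = n.choose k := by
  obtain ⟨s, hs⟩ : ∃ s : Finset (Fin n), s.card = k :=
    ⟨_, (Finset.exists_subset_card_eq (s := (Finset.univ : Finset (Fin n))) (by simp; omega)).choose_spec.2⟩
  let S : Set.powersetCard (Fin n) k := ⟨s, hs⟩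
  have hmt : IsMultiplyPretransitive (alternatingGroup (Fin n)) (Fin n) k := by
    have h1 : IsMultiplyPretransitive (alternatingGroup (Fin n)) (Fin n) (Nat.card (Fin n) - 2) :=
      alternatingGroup.isMultiplyPretransitive (Fin n)
    exact isMultiplyPretransitive_of_le (n := Nat.card (Fin n) - 2) (by simp; omega) (Nat.sub_le _ _)
  have htr : IsPretransitive (alternatingGroup (Fin n)) (Set.powersetCard (Fin n) k) :=
    Set.powersetCard.isPretransitive_of_isMultiplyPretransitive _ hmt
  have hcn : (S : Set (Fin n)).ncard = k := Set.powersetCard.ncard_eq S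
  refine ⟨stabilizer (alternatingGroup (Fin n)) S, ?_, ?_⟩
  · have hst : stabilizer (alternatingGroup (Fin n)) S = stabilizer (alternatingGroup (Fin n)) (S : Set (Fin n)) :=
      Set.powersetCard.stabilizer_coe S
    rw [hst]
    apply alternatingGroup.isCoatom_stabilizer
    · rw [← Set.ncard_pos, hcn]
      omega
    · rw [← Set.ncard_pos, Set.ncard_compl, hcn]
      simp
      omega
    · rw [hcn]
      simp
      omega
  · rw [index_stabilizer_of_transitive, Set.powersetCard.card]
    simp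

/-- **`n ≥ 7`** -/
theorem not_twoMax_of_seven_le {n : ℕ} (hn : 7 ≤ n) : ¬ TwoMax (alternatingGroup (Fin n)) := by
  classical
  have hs : IsSimpleGroup (alternatingGroup (Fin n)) := by
    apply alternatingGroup.isSimpleGroup
    simp; omega
  have : Nontrivial (Fin n) := Fin.nontrivial_iff_two_le.2 (by omega)
  have hcard : 2 * Nat.card (alternatingGroup (Fin n)) = n.factorial := by
    have := two_mul_nat_card_alternatingGroup (α := Fin n)
    rw [this, Nat.card_perm]
    simp
  have key : ∀ k, 1 ≤ k → k ≤ 3 → ∃ M : Subgroup (alternatingGroup (Fin n)), IsCoatom M ∧ M.index = n.choose k ∧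
      3 ∣ Nat.card M := by
    intro k h1 h3
    obtain ⟨M, hM, hi⟩ := exists_stab k h1 h3 hn
    refine ⟨M, hM, hi, ?_⟩
    have h4 := M.card_mul_index
    rw [hi] at h4
    have h5 := Nat.choose_mul_factorial_mul_factorial (show k ≤ n by omega)
    have h6 : (2 * Nat.card M) * n.choose k = (k.factorial * (n - k).factorial) * n.choose k := by
      calc _ = 2 * (Nat.card M * n.choose k) := by ring
        _ = n.choose k * k.factorial * (n - k).factorial := by rw [h4, hcard, h5]
        _ = _ := by ring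
    have h7 := Nat.eq_of_mul_eq_mul_right (Nat.choose_pos (show k ≤ n by omega)) h6
    have h8 : 3 ∣ 2 * Nat.card M := by
      rw [h7]
      exact Dvd.dvd.mul_left (Nat.dvd_factorial (by norm_num) (by omega)) _
    exact (Nat.Coprime.dvd_of_dvd_mul_left (by norm_num) h8)
  have hna : ¬ Group.IsSolvable (alternatingGroup (Fin n)) := by
    intro h
    have hp := (not_solvable (T := alternatingGroup (Fin n)) rfl)
    refine hp ?_ h
    intro hpr
    have h3 : 3 ∣ Nat.card (alternatingGroup (Fin n)) := by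
      obtain ⟨M, -, -, h⟩ := key 1 le_rfl (by norm_num)
      exact h.trans M.card_subgroup_dvd_card
    have h4 := (Nat.prime_dvd_prime_iff_eq Nat.prime_three hpr).1 h3
    have h5 : 6 * 1 < n.factorial := by
      calc 6 * 1 < (7 : ℕ).factorial := by decide
        _ ≤ _ := Nat.factorial_le hn
    omega
  rintro ⟨M₁, M₂, h⟩
  have hidx : ∀ k, 1 ≤ k → k ≤ 3 → M₁.index = n.choose k ∨ M₂.index = n.choose k := by
    intro k h1 h3
    obtain ⟨M, hM, hi, h3'⟩ := key k h1 h3
    obtain ⟨c, hc | hc⟩ := h M hM (not_nilpotent hna hM Nat.prime_three (by norm_num) h3')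
    · left
      rw [← hi, hc, index_conj]
    · right
      rw [← hi, hc, index_conj]
  have c1 : n.choose 1 = n := Nat.choose_one_right n
  have e2 : n.choose 2 * 2 = n * (n - 1) := by
    have := Nat.choose_succ_right_eq n 1
    rw [c1] at this
    simpa using this
  have e3 : n.choose 3 * 3 = n.choose 2 * (n - 2) := Nat.choose_succ_right_eq n 2
  obtain ⟨m, rfl⟩ : ∃ m, n = m + 7 := ⟨n - 7, by omega⟩
  have c12 : (m + 7).choose 1 < (m + 7).choose 2 := by
    have : (m + 7) * 2 < (m + 7) * (m + 7 - 1) := Nat.mul_lt_mul_of_pos_left (by omega) (by omega)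
    omega
  have c23 : (m + 7).choose 2 < (m + 7).choose 3 := by
    have : (m + 7).choose 2 * 3 < (m + 7).choose 2 * (m + 7 - 2) := Nat.mul_lt_mul_of_pos_left (by omega) (by omega)
    omega
  have i1 := hidx 1 le_rfl (by norm_num)
  have i2 := hidx 2 (by norm_num) (by norm_num)
  have i3 := hidx 3 (by norm_num) le_rfl
  omega

/-- the stabilizer of a `k`-subset -/
theorem exists_index {n : ℕ} (k : ℕ) (hk : k + 2 ≤ n) :
    ∃ M : Subgroup (alternatingGroup (Fin n)), M.index = n.choose k := by
  obtain ⟨s, hs⟩ : ∃ s : Finset (Fin n), s.card = k :=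
    ⟨_, (Finset.exists_subset_card_eq (s := (Finset.univ : Finset (Fin n))) (by simp; omega)).choose_spec.2⟩
  let S : Set.powersetCard (Fin n) k := ⟨s, hs⟩
  have hmt : IsMultiplyPretransitive (alternatingGroup (Fin n)) (Fin n) k := by
    have h1 : IsMultiplyPretransitive (alternatingGroup (Fin n)) (Fin n) (Nat.card (Fin n) - 2) :=
      alternatingGroup.isMultiplyPretransitive (Fin n)
    exact isMultiplyPretransitive_of_le (n := Nat.card (Fin n) - 2) (by simp; omega) (Nat.sub_le _ _)
  have htr : IsPretransitive (alternatingGroup (Fin n)) (Set.powersetCard (Fin n) k) :=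
    Set.powersetCard.isPretransitive_of_isMultiplyPretransitive _ hmt
  refine ⟨stabilizer (alternatingGroup (Fin n)) S, ?_⟩
  rw [index_stabilizer_of_transitive, Set.powersetCard.card]
  simp

theorem not_twoMax_five : ¬ TwoMax (alternatingGroup (Fin 5)) := by
  have hs : IsSimpleGroup (alternatingGroup (Fin 5)) := alternatingGroup.isSimpleGroup (by simp)
  have hN : Nat.card (alternatingGroup (Fin 5)) = 60 := by
    rw [nat_card_alternatingGroup]
    simp [Nat.factorial]
  have hk : ∀ n₁ ∈ Nat.divisors 60, ∀ n₂ ∈ Nat.divisors 60, n₁ ≠ 1 → n₂ ≠ 1 →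
      (∀ p ∈ [3, 5], n₁ % p = 1 ∨ n₂ % p = 1) → (n₁ ∣ 5 ∨ n₂ ∣ 5) → False := by
    decide +kernel
  refine not_twoMax hN (by norm_num) [3, 5] [5] ?_ ?_ fun n₁ n₂ h₁ h₂ h₃ h₄ h₅ h₆ =>
    hk n₁ (Nat.mem_divisors.2 ⟨h₁, by norm_num⟩) n₂ (Nat.mem_divisors.2 ⟨h₂, by norm_num⟩) h₃ h₄ h₅ (h₆ 5 (by simp))
  · simp only [List.forall_mem_cons]
    norm_num
  · obtain ⟨X, hX⟩ := exists_index (n := 5) 1 (by norm_num)
    simp only [List.forall_mem_cons]
    exact ⟨exists_of_index hN (x := 5) (X := X) (by rw [hX]; rfl) (by norm_num) (r := 3) (by norm_num) (by norm_num)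
      (by norm_num), fun x hx => absurd hx (List.not_mem_nil)⟩

theorem not_twoMax_six : ¬ TwoMax (alternatingGroup (Fin 6)) := by
  have hs : IsSimpleGroup (alternatingGroup (Fin 6)) := alternatingGroup.isSimpleGroup (by simp)
  have hN : Nat.card (alternatingGroup (Fin 6)) = 360 := by
    rw [nat_card_alternatingGroup]
    simp [Nat.factorial]
  have hk : ∀ n₁ ∈ Nat.divisors 360, ∀ n₂ ∈ Nat.divisors 360, n₁ ≠ 1 → n₂ ≠ 1 →
      (∀ p ∈ [3, 5], n₁ % p = 1 ∨ n₂ % p = 1) → (n₁ ∣ 15 ∨ n₂ ∣ 15) → False := by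
    decide +kernel
  refine not_twoMax hN (by norm_num) [3, 5] [15] ?_ ?_ fun n₁ n₂ h₁ h₂ h₃ h₄ h₅ h₆ =>
    hk n₁ (Nat.mem_divisors.2 ⟨h₁, by norm_num⟩) n₂ (Nat.mem_divisors.2 ⟨h₂, by norm_num⟩) h₃ h₄ h₅ (h₆ 15 (by simp))
  · simp only [List.forall_mem_cons]
    norm_num
  · obtain ⟨X, hX⟩ := exists_index (n := 6) 2 (by norm_num)
    simp only [List.forall_mem_cons]
    exact ⟨exists_of_index hN (x := 15) (X := X) (by rw [hX]; rfl) (by norm_num) (r := 3) (by norm_num) (by norm_num)
      (by norm_num), fun x hx => absurd hx (List.not_mem_nil)⟩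

/-- **Alternating groups have at least three classes of non-nilpotent maximal subgroups.** -/
theorem not_twoMax {T : Type u} [Group T] {n : ℕ} (hn : 5 ≤ n) (e : T ≃* alternatingGroup (Fin n)) : ¬ TwoMax T := by
  intro h
  have h1 := twoMax_congr e h
  rcases Nat.lt_or_ge n 7 with h7 | h7
  · interval_cases n
    · exact not_twoMax_five h1
    · exact not_twoMax_six h1
  · exact not_twoMax_of_seven_le h7 h1

end Cfsg.Agent.H584.TwoAlt
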