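import Cfsg.Agent.H584.TwoNum

/-!
# Two indices: the search for the orders of some sporadic groups (generated)
-/

set_option autoImplicit false
set_option Elab.async false

namespace Cfsg.Agent.H584.TwoNum

/-- the loop over the first prime in two parts -/
theorem loopP_cut {g : ℕ → Bool} {p : ℕ} : ∀ {a b n : ℕ}, loopP g p a n = true → loopP g p b (n * p ^ (a + 1)) = true →
    loopP g p (a + b + 1) n = true
  | 0, b, n, h1, h2 => by
    rw [loopP_zero] at h1
    rw [Nat.zero_add, pow_one] at h2
    rw [Nat.zero_add, loopP_succ, h1, h2]; rfl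
  | a + 1, b, n, h1, h2 => by
    rw [loopP_succ, Bool.and_eq_true] at h1
    rw [show a + 1 + b + 1 = (a + b + 1) + 1 by omega, loopP_succ, h1.1, loopP_cut h1.2 (by
      rw [mul_assoc, ← pow_succ']
      exact h2)]
    rfl

theorem allDiv_cut {f : ℕ → Bool} {l : List (ℕ × ℕ)} {p a b c m m' : ℕ} (h1 : allDiv f ((p, a) :: l) m = true)
    (h2 : allDiv f ((p, b) :: l) m' = true) (hc : c = a + b + 1) (hm : m' = m * p ^ (a + 1)) :
    allDiv f ((p, c) :: l) m = true := by
  subst hc hm
  exact loopP_cut h1 h2

theorem fi24_check1a : allDiv (check1 [3, 5, 7, 11, 13, 17, 23, 29] 6928706713464868739852996189011682522622479887152488470037997021036543 6901746347242515112382596877273202290922060954129757444200627399819264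
    [4096, 58696, 313600, 5904900, 40370176, 128595600, 240418816, 688747536]) [(2, 6), (3, 16), (5, 2), (7, 3), (11, 1), (13, 1), (17, 1), (23, 1), (29, 1)] 1 = true := by
  decide +kernel

theorem fi24_check1b : allDiv (check1 [3, 5, 7, 11, 13, 17, 23, 29] 6928706713464868739852996189011682522622479887152488470037997021036543 6901746347242515112382596877273202290922060954129757444200627399819264
    [4096, 58696, 313600, 5904900, 40370176, 128595600, 240418816, 688747536]) [(2, 6), (3, 16), (5, 2), (7, 3), (11, 1), (13, 1), (17, 1), (23, 1), (29, 1)] 128 = true := by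
  decide +kernel

theorem fi24_check1c : allDiv (check1 [3, 5, 7, 11, 13, 17, 23, 29] 6928706713464868739852996189011682522622479887152488470037997021036543 6901746347242515112382596877273202290922060954129757444200627399819264
    [4096, 58696, 313600, 5904900, 40370176, 128595600, 240418816, 688747536]) [(2, 7), (3, 16), (5, 2), (7, 3), (11, 1), (13, 1), (17, 1), (23, 1), (29, 1)] 16384 = true := by
  decide +kernel

theorem fi24_check1 : allDiv (check1 [3, 5, 7, 11, 13, 17, 23, 29] 6928706713464868739852996189011682522622479887152488470037997021036543 6901746347242515112382596877273202290922060954129757444200627399819264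
    [4096, 58696, 313600, 5904900, 40370176, 128595600, 240418816, 688747536]) [(2, 21), (3, 16), (5, 2), (7, 3), (11, 1), (13, 1), (17, 1), (23, 1), (29, 1)] 1 = true :=
  allDiv_cut fi24_check1a (allDiv_cut (c := 14) fi24_check1b fi24_check1c (by norm_num) (by norm_num)) (by norm_num)
    (by norm_num)

theorem fi24_check2 : check2 8 6928706713464868739852996189011682522622479887152488470037997021036543
    6901746347242515112382596877273202290922060954129757444200627399819264 = true := by
  decide +kernel

theorem fi24_check3 : check3 [3, 5, 7, 11, 13, 17, 23, 29] [4096, 58696, 313600, 5904900, 40370176, 128595600, 240418816, 688747536] [306936] = true := by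
  decide +kernel

theorem fi24 {n₁ n₂ : ℕ} (hn₁ : n₁ ∣ 1255205709190661721292800) (hn₂ : n₂ ∣ 1255205709190661721292800) (h₁ : n₁ ≠ 1) (h₂ : n₂ ≠ 1)
    (hp : ∀ p ∈ ([3, 5, 7, 11, 13, 17, 23, 29] : List ℕ), n₁ % p = 1 ∨ n₂ % p = 1)
    (hX : ∀ x ∈ ([306936] : List ℕ), n₁ ∣ x ∨ n₂ ∣ x) : False := by
  have hN : num [(2, 21), (3, 16), (5, 2), (7, 3), (11, 1), (13, 1), (17, 1), (23, 1), (29, 1)] = 1255205709190661721292800 := by decide +kernel
  exact kill [(2, 21), (3, 16), (5, 2), (7, 3), (11, 1), (13, 1), (17, 1), (23, 1), (29, 1)] [3, 5, 7, 11, 13, 17, 23, 29] 6928706713464868739852996189011682522622479887152488470037997021036543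
    6901746347242515112382596877273202290922060954129757444200627399819264 [4096, 58696, 313600, 5904900, 40370176, 128595600, 240418816, 688747536] [306936]
    (by decide +kernel) fi24_check1 fi24_check2 fi24_check3 (hN ▸ hn₁) (hN ▸ hn₂) h₁ h₂ hp hX

end Cfsg.Agent.H584.TwoNum
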