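import Cfsg.Agent.H584.TwoNumB

/-!
# Two indices: the search for the orders of the Baby Monster and the Monster (generated)
-/

set_option autoImplicit false
set_option maxRecDepth 100000
set_option Elab.async false

namespace Cfsg.Agent.H584.TwoNum

/-- the bit set -/
def baby_B : ℕ := 4657554276902126805446938465387507665775220491968774304626624758327888526314369745497221482223457335003960803322780822213936543540260943120112326302970206157775333868160204853343384403552902612696112316090369629709762394554630109183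

theorem baby_check1_0 : allDiv (chk1 [3, 5, 7, 11, 13, 17, 19, 23, 31, 47] baby_B) [(5, 6), (7, 2), (11, 1), (13, 1), (17, 1), (19, 1), (23, 1), (31, 1), (47, 1)] (1 * 3 ^ 0) = true := by
  decide +kernel

theorem baby_check1_1 : allDiv (chk1 [3, 5, 7, 11, 13, 17, 19, 23, 31, 47] baby_B) [(5, 6), (7, 2), (11, 1), (13, 1), (17, 1), (19, 1), (23, 1), (31, 1), (47, 1)] (1 * 3 ^ 1) = true := by
  decide +kernel

theorem baby_check1_2 : allDiv (chk1 [3, 5, 7, 11, 13, 17, 19, 23, 31, 47] baby_B) [(5, 6), (7, 2), (11, 1), (13, 1), (17, 1), (19, 1), (23, 1), (31, 1), (47, 1)] (1 * 3 ^ 2) = true := by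
  decide +kernel

theorem baby_check1_3 : allDiv (chk1 [3, 5, 7, 11, 13, 17, 19, 23, 31, 47] baby_B) [(5, 6), (7, 2), (11, 1), (13, 1), (17, 1), (19, 1), (23, 1), (31, 1), (47, 1)] (1 * 3 ^ 3) = true := by
  decide +kernel

theorem baby_check1_4 : allDiv (chk1 [3, 5, 7, 11, 13, 17, 19, 23, 31, 47] baby_B) [(5, 6), (7, 2), (11, 1), (13, 1), (17, 1), (19, 1), (23, 1), (31, 1), (47, 1)] (1 * 3 ^ 4) = true := by
  decide +kernel

theorem baby_check1_5 : allDiv (chk1 [3, 5, 7, 11, 13, 17, 19, 23, 31, 47] baby_B) [(5, 6), (7, 2), (11, 1), (13, 1), (17, 1), (19, 1), (23, 1), (31, 1), (47, 1)] (1 * 3 ^ 5) = true := by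
  decide +kernel

theorem baby_check1_6 : allDiv (chk1 [3, 5, 7, 11, 13, 17, 19, 23, 31, 47] baby_B) [(5, 6), (7, 2), (11, 1), (13, 1), (17, 1), (19, 1), (23, 1), (31, 1), (47, 1)] (1 * 3 ^ 6) = true := by
  decide +kernel

theorem baby_check1_7 : allDiv (chk1 [3, 5, 7, 11, 13, 17, 19, 23, 31, 47] baby_B) [(5, 6), (7, 2), (11, 1), (13, 1), (17, 1), (19, 1), (23, 1), (31, 1), (47, 1)] (1 * 3 ^ 7) = true := by
  decide +kernel

theorem baby_check1_8 : allDiv (chk1 [3, 5, 7, 11, 13, 17, 19, 23, 31, 47] baby_B) [(5, 6), (7, 2), (11, 1), (13, 1), (17, 1), (19, 1), (23, 1), (31, 1), (47, 1)] (1 * 3 ^ 8) = true := by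
  decide +kernel

theorem baby_check1_9 : allDiv (chk1 [3, 5, 7, 11, 13, 17, 19, 23, 31, 47] baby_B) [(5, 6), (7, 2), (11, 1), (13, 1), (17, 1), (19, 1), (23, 1), (31, 1), (47, 1)] (1 * 3 ^ 9) = true := by
  decide +kernel

theorem baby_check1_10 : allDiv (chk1 [3, 5, 7, 11, 13, 17, 19, 23, 31, 47] baby_B) [(5, 6), (7, 2), (11, 1), (13, 1), (17, 1), (19, 1), (23, 1), (31, 1), (47, 1)] (1 * 3 ^ 10) = true := by
  decide +kernel

theorem baby_check1_11 : allDiv (chk1 [3, 5, 7, 11, 13, 17, 19, 23, 31, 47] baby_B) [(5, 6), (7, 2), (11, 1), (13, 1), (17, 1), (19, 1), (23, 1), (31, 1), (47, 1)] (1 * 3 ^ 11) = true := by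
  decide +kernel

theorem baby_check1_12 : allDiv (chk1 [3, 5, 7, 11, 13, 17, 19, 23, 31, 47] baby_B) [(5, 6), (7, 2), (11, 1), (13, 1), (17, 1), (19, 1), (23, 1), (31, 1), (47, 1)] (1 * 3 ^ 12) = true := by
  decide +kernel

theorem baby_check1_13 : allDiv (chk1 [3, 5, 7, 11, 13, 17, 19, 23, 31, 47] baby_B) [(5, 6), (7, 2), (11, 1), (13, 1), (17, 1), (19, 1), (23, 1), (31, 1), (47, 1)] (1 * 3 ^ 13) = true := by
  decide +kernel

theorem baby_check1 : allDiv (chk1 [3, 5, 7, 11, 13, 17, 19, 23, 31, 47] baby_B) [(3, 13), (5, 6), (7, 2), (11, 1), (13, 1), (17, 1), (19, 1), (23, 1), (31, 1), (47, 1)] 1 = true := by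
  apply allDiv_split
  intro i hi
  interval_cases i
  · exact baby_check1_0
  · exact baby_check1_1
  · exact baby_check1_2
  · exact baby_check1_3
  · exact baby_check1_4
  · exact baby_check1_5
  · exact baby_check1_6
  · exact baby_check1_7
  · exact baby_check1_8
  · exact baby_check1_9
  · exact baby_check1_10
  · exact baby_check1_11
  · exact baby_check1_12
  · exact baby_check1_13

/-- part of the list of maximal masks -/
def baby_C0 : List ℕ := [7, 13, 14, 19, 21, 22, 25, 26]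

theorem baby_check3_0 : checkR [3, 5, 7, 11, 13, 17, 19, 23, 31, 47] [(2, 41), (3, 13), (5, 6), (7, 2), (11, 1), (13, 1), (17, 1), (19, 1), (23, 1), (31, 1), (47, 1)] baby_C0 = true := by
  decide +kernel

/-- part of the list of maximal masks -/
def baby_C1 : List ℕ := [35, 37, 38, 41, 42, 49, 50, 52, 56, 67, 69, 73, 82, 84, 88, 97]

theorem baby_check3_1 : checkR [3, 5, 7, 11, 13, 17, 19, 23, 31, 47] [(2, 41), (3, 13), (5, 6), (7, 2), (11, 1), (13, 1), (17, 1), (19, 1), (23, 1), (31, 1), (47, 1)] baby_C1 = true := by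
  decide +kernel

/-- part of the list of maximal masks -/
def baby_C2 : List ℕ := [98, 100, 112, 133, 134, 139, 146, 156, 161, 162, 164, 168, 176, 193, 194, 204, 224]

theorem baby_check3_2 : checkR [3, 5, 7, 11, 13, 17, 19, 23, 31, 47] [(2, 41), (3, 13), (5, 6), (7, 2), (11, 1), (13, 1), (17, 1), (19, 1), (23, 1), (31, 1), (47, 1)] baby_C2 = true := by
  decide +kernel

/-- part of the list of maximal masks -/
def baby_C3 : List ℕ := [259, 261, 265, 266, 274, 276, 280, 289, 290, 300, 322, 332, 337, 352, 385, 515]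

theorem baby_check3_3 : checkR [3, 5, 7, 11, 13, 17, 19, 23, 31, 47] [(2, 41), (3, 13), (5, 6), (7, 2), (11, 1), (13, 1), (17, 1), (19, 1), (23, 1), (31, 1), (47, 1)] baby_C3 = true := by
  decide +kernel

/-- part of the list of maximal masks -/
def baby_C4 : List ℕ := [518, 524, 528, 548, 552, 578, 580, 608, 640, 769]

theorem baby_check3_4 : checkR [3, 5, 7, 11, 13, 17, 19, 23, 31, 47] [(2, 41), (3, 13), (5, 6), (7, 2), (11, 1), (13, 1), (17, 1), (19, 1), (23, 1), (31, 1), (47, 1)] baby_C4 = true := by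
  decide +kernel

/-- the list of maximal masks -/
def baby_C : List ℕ := (baby_C0 ++ (baby_C1 ++ (baby_C2 ++ (baby_C3 ++ baby_C4))))

theorem baby_check2 : checkC 10 baby_B baby_C = true := by
  decide +kernel

theorem baby_check3 : checkR [3, 5, 7, 11, 13, 17, 19, 23, 31, 47] [(2, 41), (3, 13), (5, 6), (7, 2), (11, 1), (13, 1), (17, 1), (19, 1), (23, 1), (31, 1), (47, 1)] baby_C = true :=
  checkR_append baby_check3_0 (checkR_append baby_check3_1 (checkR_append baby_check3_2 (checkR_append baby_check3_3 (baby_check3_4))))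

theorem baby {n₁ n₂ : ℕ} (hn₁ : n₁ ∣ 1889375872099856765625) (hn₂ : n₂ ∣ 4154781481226426191177580544000000)
    (h₁ : n₁ ≠ 1) (h₂ : n₂ ≠ 1)
    (hp : ∀ p ∈ ([3, 5, 7, 11, 13, 17, 19, 23, 31, 47] : List ℕ), n₁ % p = 1 ∨ n₂ % p = 1) : False := by
  have hN₁ : num [(3, 13), (5, 6), (7, 2), (11, 1), (13, 1), (17, 1), (19, 1), (23, 1), (31, 1), (47, 1)] = 1889375872099856765625 := by decide +kernel
  have hN₂ : num [(2, 41), (3, 13), (5, 6), (7, 2), (11, 1), (13, 1), (17, 1), (19, 1), (23, 1), (31, 1), (47, 1)] = 4154781481226426191177580544000000 := by decide +kernel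
  exact kill2 [(3, 13), (5, 6), (7, 2), (11, 1), (13, 1), (17, 1), (19, 1), (23, 1), (31, 1), (47, 1)] [(2, 41), (3, 13), (5, 6), (7, 2), (11, 1), (13, 1), (17, 1), (19, 1), (23, 1), (31, 1), (47, 1)] [3, 5, 7, 11, 13, 17, 19, 23, 31, 47]
    baby_B baby_C
    (by decide +kernel) (by decide +kernel) baby_check1 baby_check2 baby_check3 (hN₁ ▸ hn₁) (hN₂ ▸ hn₂) h₁ h₂ hp

end Cfsg.Agent.H584.TwoNum
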