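import Cfsg.Agent.H584.TwoNumB

/-!
# Two indices: the search for the orders of the Baby Monster and the Monster (generated)
-/

set_option autoImplicit false
set_option maxRecDepth 100000
set_option Elab.async false

namespace Cfsg.Agent.H584.TwoNum

/-- the bit set -/
def monsterB_B : ℕ := 3524971412108382657134814839800281546439142134396647106039138260573107027685474936504833029647366386245696815539529837397325904947594311361988833867311613366681470687076527190765620564601860836998555872126767032173903193863383328188919262015842653180692314423926972687639995196119198034802329170347230576378241039458975893458563111107812043530303268881875144643529137135717175563277536293269479507631343668746963800432768939024673532185583061085686592491376178895623506593907809851638733110196306983619144741905533223467749102376648319831994115857756947106549165497633694960042622461883590603425570358901636775011514037751431042535644993677029129422541606304783984811435163641551527236484793274341738993724329249571083375986505014542880330027883655096767120554509224636621163480841706806394744050625716815612013763097822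512585227212705986733328396337696193900714182398738245889995442581933717351771514918208326413079413458264171177018371113422368380631789344718470837672962455235487219617929641756264950192180217583677091924834925777024036357039912867927748387163085854948630507921908650404444543513248277188345928193621200097797200401069677743447631206833218365676656937378307145732508011129852277242975474034968960469982733141406702385893052525889598531820728305217012499972127486630819932663721852240924333656704398627074881229367205745051712376018432627572007649052314551514928336265431638275261555278746970409124366403295811513579699031536464328588123388596643772497208107337268145051275556972663723703528910819637092227380359154841515735161584565732017243986975259064352485426784041688023277818142939583551550081433581717215722777677863836575251286171805254805121335205790121290463702364838344193414321783862769395841790608231944291223886740534859033950900179874664895803003599825256788321137344743808567791508900765216415280298312562132107235504170428571182572341611790562996400304143363117909068462733480812427195981877735979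0846746365082908108523377755046133450728602841140317161182000644127351075116383377582461915919693465434726249606279545423706512635207600566567196413932309261342567134860787954330964410197661423061736811606336213530706146365640031564343048789843871106855254136491458223301555803124128123804654837805696170655212884034289478094119074065272295263762557395762696368695630337382530864086058108898854419723726688904036604919058198052865499702945748165376086407168369562183395699906225189198014182273231815440887012617741067483438410541734921978787249194375031196152994634883387712710432670926817702769227353777793926738982256549243521401200537882207457767171597675902784507831028421275565662028820144337094376941656132929852444226402420821027145515740556133604153387108143624181394484654063453950924173742393695065910531050547244457221027758580456899569424445140101293037547977962036735576255827281316961667431601107310588600368950161319258434256703680044585760996064516757458363461207672926233958187891810873691052619765367277503174631775976908851541435010137751351763140027515560009413585806976297027260148167015035270757323490295777258280728091728764927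

theorem monsterB_check1 : allDiv (chk1 [3, 5, 7, 11, 13, 17, 19, 23, 29, 31, 41, 47, 59, 71] monsterB_B) [(3, 7), (5, 3), (7, 4), (11, 1), (13, 2), (29, 1), (41, 1), (59, 1), (71, 1)] 1 = true := by
  decide +kernel

/-- part of the list of maximal masks -/
def monsterB_C0 : List ℕ := [7]

theorem monsterB_check3_0 : checkR [3, 5, 7, 11, 13, 17, 19, 23, 29, 31, 41, 47, 59, 71] [(2, 46), (3, 20), (5, 9), (7, 6), (11, 2), (13, 3), (17, 1), (19, 1), (23, 1), (29, 1), (31, 1), (41, 1), (47, 1), (59, 1), (71, 1)] monsterB_C0 = true := by
  decide +kernel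

/-- part of the list of maximal masks -/
def monsterB_C1 : List ℕ := [11, 14]

theorem monsterB_check3_1 : checkR [3, 5, 7, 11, 13, 17, 19, 23, 29, 31, 41, 47, 59, 71] [(2, 46), (3, 20), (5, 9), (7, 6), (11, 2), (13, 3), (17, 1), (19, 1), (23, 1), (29, 1), (31, 1), (41, 1), (47, 1), (59, 1), (71, 1)] monsterB_C1 = true := by
  decide +kernel

/-- part of the list of maximal masks -/
def monsterB_C2 : List ℕ := [19]

theorem monsterB_check3_2 : checkR [3, 5, 7, 11, 13, 17, 19, 23, 29, 31, 41, 47, 59, 71] [(2, 46), (3, 20), (5, 9), (7, 6), (11, 2), (13, 3), (17, 1), (19, 1), (23, 1), (29, 1), (31, 1), (41, 1), (47, 1), (59, 1), (71, 1)] monsterB_C2 = true := by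
  decide +kernel

/-- part of the list of maximal masks -/
def monsterB_C3 : List ℕ := [22, 35]

theorem monsterB_check3_3 : checkR [3, 5, 7, 11, 13, 17, 19, 23, 29, 31, 41, 47, 59, 71] [(2, 46), (3, 20), (5, 9), (7, 6), (11, 2), (13, 3), (17, 1), (19, 1), (23, 1), (29, 1), (31, 1), (41, 1), (47, 1), (59, 1), (71, 1)] monsterB_C3 = true := by
  decide +kernel

/-- part of the list of maximal masks -/
def monsterB_C4 : List ℕ := [45]

theorem monsterB_check3_4 : checkR [3, 5, 7, 11, 13, 17, 19, 23, 29, 31, 41, 47, 59, 71] [(2, 46), (3, 20), (5, 9), (7, 6), (11, 2), (13, 3), (17, 1), (19, 1), (23, 1), (29, 1), (31, 1), (41, 1), (47, 1), (59, 1), (71, 1)] monsterB_C4 = true := by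
  decide +kernel

/-- part of the list of maximal masks -/
def monsterB_C5 : List ℕ := [49, 58, 74, 76]

theorem monsterB_check3_5 : checkR [3, 5, 7, 11, 13, 17, 19, 23, 29, 31, 41, 47, 59, 71] [(2, 46), (3, 20), (5, 9), (7, 6), (11, 2), (13, 3), (17, 1), (19, 1), (23, 1), (29, 1), (31, 1), (41, 1), (47, 1), (59, 1), (71, 1)] monsterB_C5 = true := by
  decide +kernel

/-- part of the list of maximal masks -/
def monsterB_C6 : List ℕ := [89, 98, 100, 104]

theorem monsterB_check3_6 : checkR [3, 5, 7, 11, 13, 17, 19, 23, 29, 31, 41, 47, 59, 71] [(2, 46), (3, 20), (5, 9), (7, 6), (11, 2), (13, 3), (17, 1), (19, 1), (23, 1), (29, 1), (31, 1), (41, 1), (47, 1), (59, 1), (71, 1)] monsterB_C6 = true := by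
  decide +kernel

/-- part of the list of maximal masks -/
def monsterB_C7 : List ℕ := [133, 137, 140, 145, 152, 164, 170]

theorem monsterB_check3_7 : checkR [3, 5, 7, 11, 13, 17, 19, 23, 29, 31, 41, 47, 59, 71] [(2, 46), (3, 20), (5, 9), (7, 6), (11, 2), (13, 3), (17, 1), (19, 1), (23, 1), (29, 1), (31, 1), (41, 1), (47, 1), (59, 1), (71, 1)] monsterB_C7 = true := by
  decide +kernel

/-- part of the list of maximal masks -/
def monsterB_C8 : List ℕ := [195]

theorem monsterB_check3_8 : checkR [3, 5, 7, 11, 13, 17, 19, 23, 29, 31, 41, 47, 59, 71] [(2, 46), (3, 20), (5, 9), (7, 6), (11, 2), (13, 3), (17, 1), (19, 1), (23, 1), (29, 1), (31, 1), (41, 1), (47, 1), (59, 1), (71, 1)] monsterB_C8 = true := by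
  decide +kernel

/-- part of the list of maximal masks -/
def monsterB_C9 : List ℕ := [200, 208, 224, 265, 266, 274, 276, 289, 292, 321, 322, 328, 368, 385, 416]

theorem monsterB_check3_9 : checkR [3, 5, 7, 11, 13, 17, 19, 23, 29, 31, 41, 47, 59, 71] [(2, 46), (3, 20), (5, 9), (7, 6), (11, 2), (13, 3), (17, 1), (19, 1), (23, 1), (29, 1), (31, 1), (41, 1), (47, 1), (59, 1), (71, 1)] monsterB_C9 = true := by
  decide +kernel

/-- part of the list of maximal masks -/
def monsterB_C10 : List ℕ := [515, 517, 524]

theorem monsterB_check3_10 : checkR [3, 5, 7, 11, 13, 17, 19, 23, 29, 31, 41, 47, 59, 71] [(2, 46), (3, 20), (5, 9), (7, 6), (11, 2), (13, 3), (17, 1), (19, 1), (23, 1), (29, 1), (31, 1), (41, 1), (47, 1), (59, 1), (71, 1)] monsterB_C10 = true := by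
  decide +kernel

/-- part of the list of maximal masks -/
def monsterB_C11 : List ℕ := [529, 536, 546, 560, 578, 592, 609, 672, 704, 769]

theorem monsterB_check3_11 : checkR [3, 5, 7, 11, 13, 17, 19, 23, 29, 31, 41, 47, 59, 71] [(2, 46), (3, 20), (5, 9), (7, 6), (11, 2), (13, 3), (17, 1), (19, 1), (23, 1), (29, 1), (31, 1), (41, 1), (47, 1), (59, 1), (71, 1)] monsterB_C11 = true := by
  decide +kernel

/-- part of the list of maximal masks -/
def monsterB_C12 : List ℕ := [774, 776, 1029, 1030]

theorem monsterB_check3_12 : checkR [3, 5, 7, 11, 13, 17, 19, 23, 29, 31, 41, 47, 59, 71] [(2, 46), (3, 20), (5, 9), (7, 6), (11, 2), (13, 3), (17, 1), (19, 1), (23, 1), (29, 1), (31, 1), (41, 1), (47, 1), (59, 1), (71, 1)] monsterB_C12 = true := by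
  decide +kernel

/-- part of the list of maximal masks -/
def monsterB_C13 : List ℕ := [1041, 1064, 1090, 1092, 1104, 1120, 1410, 1546, 1600, 1664, 2058, 2060, 2072, 2081, 2082, 2088]

theorem monsterB_check3_13 : checkR [3, 5, 7, 11, 13, 17, 19, 23, 29, 31, 41, 47, 59, 71] [(2, 46), (3, 20), (5, 9), (7, 6), (11, 2), (13, 3), (17, 1), (19, 1), (23, 1), (29, 1), (31, 1), (41, 1), (47, 1), (59, 1), (71, 1)] monsterB_C13 = true := by
  decide +kernel

/-- part of the list of maximal masks -/
def monsterB_C14 : List ℕ := [2100, 2113, 2114, 2120, 2144, 2177, 2178, 2184, 2192, 2305, 2312, 2336, 2432, 2564, 2568, 2624, 2688, 3584, 4102, 4112, 4136]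

theorem monsterB_check3_14 : checkR [3, 5, 7, 11, 13, 17, 19, 23, 29, 31, 41, 47, 59, 71] [(2, 46), (3, 20), (5, 9), (7, 6), (11, 2), (13, 3), (17, 1), (19, 1), (23, 1), (29, 1), (31, 1), (41, 1), (47, 1), (59, 1), (71, 1)] monsterB_C14 = true := by
  decide +kernel

/-- part of the list of maximal masks -/
def monsterB_C15 : List ℕ := [4163, 4256]

theorem monsterB_check3_15 : checkR [3, 5, 7, 11, 13, 17, 19, 23, 29, 31, 41, 47, 59, 71] [(2, 46), (3, 20), (5, 9), (7, 6), (11, 2), (13, 3), (17, 1), (19, 1), (23, 1), (29, 1), (31, 1), (41, 1), (47, 1), (59, 1), (71, 1)] monsterB_C15 = true := by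
  decide +kernel

/-- part of the list of maximal masks -/
def monsterB_C16 : List ℕ := [4353, 4480, 4608, 5121, 6144, 8195, 8202, 8204, 8210, 8232, 8256, 8320, 8456, 8712, 8720, 10240]

theorem monsterB_check3_16 : checkR [3, 5, 7, 11, 13, 17, 19, 23, 29, 31, 41, 47, 59, 71] [(2, 46), (3, 20), (5, 9), (7, 6), (11, 2), (13, 3), (17, 1), (19, 1), (23, 1), (29, 1), (31, 1), (41, 1), (47, 1), (59, 1), (71, 1)] monsterB_C16 = true := by
  decide +kernel

/-- the list of maximal masks -/
def monsterB_C : List ℕ := (monsterB_C0 ++ (monsterB_C1 ++ (monsterB_C2 ++ (monsterB_C3 ++ (monsterB_C4 ++ (monsterB_C5 ++ (monsterB_C6 ++ (monsterB_C7 ++ (monsterB_C8 ++ (monsterB_C9 ++ (monsterB_C10 ++ (monsterB_C11 ++ (monsterB_C12 ++ (monsterB_C13 ++ (monsterB_C14 ++ (monsterB_C15 ++ monsterB_C16))))))))))))))))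

theorem monsterB_check2 : checkC 14 monsterB_B monsterB_C = true := by
  decide +kernel

theorem monsterB_check3 : checkR [3, 5, 7, 11, 13, 17, 19, 23, 29, 31, 41, 47, 59, 71] [(2, 46), (3, 20), (5, 9), (7, 6), (11, 2), (13, 3), (17, 1), (19, 1), (23, 1), (29, 1), (31, 1), (41, 1), (47, 1), (59, 1), (71, 1)] monsterB_C = true :=
  checkR_append monsterB_check3_0 (checkR_append monsterB_check3_1 (checkR_append monsterB_check3_2 (checkR_append monsterB_check3_3 (checkR_append monsterB_check3_4 (checkR_append monsterB_check3_5 (checkR_append monsterB_check3_6 (checkR_append monsterB_check3_7 (checkR_append monsterB_check3_8 (checkR_append monsterB_check3_9 (checkR_append monsterB_check3_10 (checkR_append monsterB_check3_11 (checkR_append monsterB_check3_12 (checkR_append monsterB_check3_13 (checkR_append monsterB_check3_14 (checkR_append monsterB_check3_15 (monsterB_check3_16))))))))))))))))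

theorem monsterB {n₁ n₂ : ℕ} (hn₁ : n₁ ∣ 6077466321375574125) (hn₂ : n₂ ∣ 808017424794512875886459904961710757005754368000000000)
    (h₁ : n₁ ≠ 1) (h₂ : n₂ ≠ 1)
    (hp : ∀ p ∈ ([3, 5, 7, 11, 13, 17, 19, 23, 29, 31, 41, 47, 59, 71] : List ℕ), n₁ % p = 1 ∨ n₂ % p = 1) : False := by
  have hN₁ : num [(3, 7), (5, 3), (7, 4), (11, 1), (13, 2), (29, 1), (41, 1), (59, 1), (71, 1)] = 6077466321375574125 := by decide +kernel
  have hN₂ : num [(2, 46), (3, 20), (5, 9), (7, 6), (11, 2), (13, 3), (17, 1), (19, 1), (23, 1), (29, 1), (31, 1), (41, 1), (47, 1), (59, 1), (71, 1)] = 808017424794512875886459904961710757005754368000000000 := by decide +kernel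
  exact kill2 [(3, 7), (5, 3), (7, 4), (11, 1), (13, 2), (29, 1), (41, 1), (59, 1), (71, 1)] [(2, 46), (3, 20), (5, 9), (7, 6), (11, 2), (13, 3), (17, 1), (19, 1), (23, 1), (29, 1), (31, 1), (41, 1), (47, 1), (59, 1), (71, 1)] [3, 5, 7, 11, 13, 17, 19, 23, 29, 31, 41, 47, 59, 71]
    monsterB_B monsterB_C
    (by decide +kernel) (by decide +kernel) monsterB_check1 monsterB_check2 monsterB_check3 (hN₁ ▸ hn₁) (hN₂ ▸ hn₂) h₁ h₂ hp

end Cfsg.Agent.H584.TwoNum
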