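import Mathlib
import Cfsg.Agent.H584.TwoCore

/-!
# The centralizer of a 2-central involution, as needed by `TwoCore.not_twoMax`
-/

set_option autoImplicit false

namespace Cfsg.Agent.H584.TwoOdd

open Subgroup

universe u

/-- A proper subgroup of odd index which is not a 2-group. -/
def OddX (K : Type u) [Group K] : Prop :=
  ∃ X : Subgroup K, X ≠ ⊤ ∧ (∃ r : ℕ, r.Prime ∧ r ≠ 2 ∧ r ∣ Nat.card X) ∧ ¬ 2 ∣ X.index

/-- The index of a subgroup of odd index divides the odd part of the order. -/
theorem OddX.exists {K : Type u} [Group K] [Finite K] (h : OddX K) {N a m : ℕ} (hN : Nat.card K = N)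
    (hNm : 2 ^ a * m = N) : ∃ X : Subgroup K, X ≠ ⊤ ∧ (∃ r : ℕ, r.Prime ∧ r ≠ 2 ∧ r ∣ Nat.card X) ∧ X.index ∣ m := by
  obtain ⟨X, hX, hr, hi⟩ := h
  refine ⟨X, hX, hr, ?_⟩
  have h1 : X.index ∣ 2 ^ a * m := hNm ▸ hN ▸ X.index_dvd_card
  have h2 : Nat.Coprime X.index (2 ^ a) :=
    Nat.Coprime.pow_right _ ((Nat.Prime.coprime_iff_not_dvd Nat.prime_two).2 hi).symm
  exact h2.dvd_of_dvd_mul_left h1

/-- A 2-central involution whose centralizer contains a nontrivial perfect group. -/
theorem oddX_of_sylow {K : Type u} [Group K] [Finite K] [IsSimpleGroup K] {z : K} (z1 : z ≠ 1)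
    {S : Sylow 2 K} (hS : ∀ x ∈ S, x * z = z * x) {P : Subgroup K} (cen : ∀ x ∈ P, x * z = z * x)
    (perf : ⁅P, P⁆ = P) (hP : P ≠ ⊥) : OddX K := by
  have hPC : P ≤ centralizer {z} := fun x hx => mem_centralizer_singleton_iff.2 (cen x hx)
  have hsol : ¬ Group.IsSolvable P := by
    intro hs
    have h1 : ⁅(⊤ : Subgroup P), (⊤ : Subgroup P)⁆ = ⊤ := by
      apply (Subgroup.map_injective P.subtype_injective)
      rw [Subgroup.map_commutator, ← MonoidHom.range_eq_map, P.range_subtype, perf]
    have h2 : ∀ n, derivedSeries P n = ⊤ := by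
      intro n
      induction n with
      | zero => rfl
      | succ n ih => rw [derivedSeries_succ, ih, h1]
    obtain ⟨n, hn⟩ := hs.solvable
    rw [h2 n] at hn
    apply hP
    rw [eq_bot_iff]
    intro x hx
    have h3 : (⟨x, hx⟩ : P) ∈ (⊤ : Subgroup P) := Subgroup.mem_top _
    rw [hn, Subgroup.mem_bot] at h3
    rw [Subgroup.mem_bot]
    exact congrArg Subtype.val h3
  refine ⟨centralizer {z}, ?_, ?_, ?_⟩
  · intro h
    have hz : z ∈ center K := by
      rw [Subgroup.mem_center_iff]
      intro g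
      exact mem_centralizer_singleton_iff.1 (h ▸ Subgroup.mem_top g)
    have hc : center K = ⊤ := by
      rcases (inferInstance : (center K).Normal).eq_bot_or_eq_top with h | h
      · rw [h, Subgroup.mem_bot] at hz
        exact absurd hz z1
      · exact h
    apply hsol
    have : IsMulCommutative P := ⟨⟨fun a b => by
      apply Subtype.ext
      exact (Subgroup.mem_center_iff.1 (hc ▸ Subgroup.mem_top (b : K)) (a : K))⟩⟩
    exact Group.isSolvable_of_comm fun a b => this.is_comm.comm a b
  · by_contra hcon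
    push Not at hcon
    have h2 : IsPGroup 2 (centralizer ({z} : Set K)) := by
      rw [IsPGroup.iff_card]
      exact ⟨_, Nat.eq_prime_pow_of_unique_prime_dvd Nat.card_pos.ne' fun {q} hq hqd => by
        by_contra h
        exact hcon q hq h hqd⟩
    have h3 : IsPGroup 2 P := h2.to_le hPC
    have := Fact.mk Nat.prime_two
    have := h3.isNilpotent
    exact hsol inferInstance
  · have hSX : (S : Subgroup K) ≤ centralizer {z} := fun x hx => mem_centralizer_singleton_iff.2 (hS x hx)
    intro h
    have := Fact.mk Nat.prime_two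
    exact S.not_dvd_index (h.trans (Subgroup.index_dvd_of_le hSX))

end Cfsg.Agent.H584.TwoOdd
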