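import Mathlib
import Cfsg.Agent.H584.TwoOdd
import Cfsg.Agent.NotCT.Orders
import Cfsg.Agent.KFacts.HS.Final
import Cfsg.Agent.KFacts.Co1.CaseM
import Cfsg.Agent.KFacts.HN.Sheet
import Cfsg.Agent.KFacts.SuzSheets
import Cfsg.Agent.OddHalf.D8.RowB
import Cfsg.Agent.OddHalf.D8.RowJ3
import Cfsg.Agent.S1624
import Cfsg.Agent.S1623
import Cfsg.Agent.S1680
import Cfsg.Agent.S1683
import Cfsg.Agent.S1685
import Cfsg.Agent.S1687
import Cfsg.Agent.S1689
import Cfsg.Agent.S1690
import Cfsg.Agent.S1691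
import Cfsg.Agent.S1692
import Cfsg.Agent.S1706
import Cfsg.Agent.S1707
import Cfsg.Agent.S0435
import Cfsg.Agent.RuLat.Main
import Cfsg.Agent.SporadicStructure.Co2RankThree
import Cfsg.Agent.Mrg.Omega.ML.LocM24
import Cfsg.Agent.Omega.Quasithin.Row.MTwelve
import Cfsg.Agent.SporadicRecognition.McLAssemble
import Cfsg.Agent.SporadicStructure.CrossCrit
import Cfsg.Agent.S5534
import Cfsg.Agent.S5542
import Cfsg.Agent.TitsK.Inst
import Cfsg.Agent.Schreier.CoTwoStab

/-!
# Subgroups of known index of the sporadic groups, as needed by `TwoCore.not_twoMax`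
-/

set_option autoImplicit false

namespace Cfsg.Agent.H584.TwoFacts

open Cfsg Cfsg.Agent.H584.TwoCore Cfsg.Agent.H584.TwoOdd

universe u

variable {K : Type u} [Group K]

/-! ### small index -/

theorem suz_1782 (h : Spor.IsoSuz K) : ∃ X : Subgroup K, X.index = 1782 := by
  obtain ⟨e⟩ := h
  exact exists_index_congr e ⟨_, S1680.result.1⟩

theorem he_2058 (h : Spor.IsoHe K) : ∃ X : Subgroup K, X.index = 2058 := by
  obtain ⟨e⟩ := h
  exact exists_index_congr e ⟨_, S1683.result.1⟩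

theorem fi22_14080 (h : Spor.IsoFi22 K) : ∃ X : Subgroup K, X.index = 14080 := by
  obtain ⟨e⟩ := h
  exact exists_index_congr e ⟨_, S1685.result⟩

theorem fi22_3510 (h : Spor.IsoFi22 K) : ∃ X : Subgroup K, X.index = 3510 := by
  obtain ⟨e⟩ := h
  exact exists_index_congr e ⟨_, S1687.result.1⟩

theorem fi23_31671 (h : Spor.IsoFi23 K) : ∃ X : Subgroup K, X.index = 31671 := by
  obtain ⟨e⟩ := h
  exact exists_index_congr e ⟨_, S1689.result.1⟩

theorem on_122760 (h : Spor.IsoON K) : ∃ X : Subgroup K, X.index = 122760 := by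
  obtain ⟨e⟩ := h
  exact exists_index_congr e ⟨_, S1692.result⟩

theorem th_143127000 (h : Spor.IsoTh K) : ∃ X : Subgroup K, X.index = 143127000 := by
  obtain ⟨e⟩ := h
  exact exists_index_congr e ⟨_, S1706.result⟩

theorem hn_1539000 (h : Spor.IsoHN K) : ∃ X : Subgroup K, X.index = 1539000 := by
  obtain ⟨e⟩ := h
  exact exists_index_congr e ⟨_, S1707.result⟩

theorem j2_100 (h : Spor.IsoJ2 K) : ∃ X : Subgroup K, X.index = 100 := by
  obtain ⟨e⟩ := h
  obtain ⟨H, hH, -⟩ := S1624.result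
  exact exists_index_congr e ⟨H, hH⟩

theorem co2_2300 [Finite K] (h : Spor.IsoCo2 K) : ∃ X : Subgroup K, X.index = 2300 := by
  obtain ⟨e⟩ := h
  obtain ⟨H, -, hH, -⟩ := SporadicStructure.Co2RankThree.rank_three e
  exact ⟨H, hH⟩

/-- the index of a subgroup of given order in a group of given order -/
theorem index_of_card {G : Type*} [Group G] {N m x : ℕ} (hN : Nat.card G = N) {X : Subgroup G} (hX : Nat.card X = m)
    (h : m * x = N) (hm : 0 < m) : X.index = x := by
  have h1 := X.card_mul_index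
  rw [hX, hN, ← h] at h1
  exact Nat.eq_of_mul_eq_mul_left hm h1

/-- a subgroup of a group of permutations, inside a bigger one -/
theorem exists_of_le {G : Type*} [Group G] {A B : Subgroup G} (h : A ≤ B) {a b x : ℕ} (hA : Nat.card A = a)
    (hB : Nat.card B = b) (hx : a * x = b) (ha : 0 < a) : ∃ X : Subgroup B, X.index = x :=
  ⟨A.subgroupOf B, index_of_card hB ((Nat.card_congr (Subgroup.subgroupOfEquivOfLe h).toEquiv).trans hA) hx ha⟩

theorem m12_12 (h : Spor.IsoM12 K) : ∃ X : Subgroup K, X.index = 12 := by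
  obtain ⟨e⟩ := h
  exact exists_index_congr e (exists_of_le (A := Spor.M11) (B := Spor.M12) inf_le_left
    (NotCT.Orders.m11 ⟨MulEquiv.refl _⟩) (NotCT.Orders.m12 ⟨MulEquiv.refl _⟩) (by norm_num) (by norm_num))

theorem co3_11178 (h : Spor.IsoCo3 K) : ∃ X : Subgroup K, X.index = 11178 := by
  obtain ⟨e⟩ := h
  exact exists_index_congr e (exists_of_le (A := Spor.HS) (B := Spor.Co3) inf_le_left
    (NotCT.Orders.hs ⟨MulEquiv.refl _⟩) (NotCT.Orders.co3 ⟨MulEquiv.refl _⟩) (by norm_num) (by norm_num))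

theorem co2_47104 (h : Spor.IsoCo2 K) : ∃ X : Subgroup K, X.index = 47104 := by
  obtain ⟨e⟩ := h
  have hle : Spor.McL ≤ Spor.Co2 := by
    intro x hx
    exact ⟨hx.1.1, hx.2⟩
  exact exists_index_congr e (exists_of_le hle
    (NotCT.Orders.mcl ⟨MulEquiv.refl _⟩) (NotCT.Orders.co2 ⟨MulEquiv.refl _⟩) (by norm_num) (by norm_num))

theorem ru_4060 (h : Spor.IsoRu K) : ∃ X : Subgroup K, X.index = 4060 := by
  obtain ⟨e⟩ := h
  have hH : Nat.card SporadicB.RuOrder.H = 145926144000 :=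
    NotCT.Orders.ru ⟨RuLat.Main.equiv.symm⟩
  exact exists_index_congr (e.trans RuLat.Main.equiv)
    ⟨_, index_of_card hH (SporadicB.RuOrder.card_stabilizer 0) (by norm_num) (by norm_num)⟩

theorem m11_165 [Finite K] [IsSimpleGroup K] (h : Spor.IsoM11 K) : ∃ X : Subgroup K, X.index = 165 := by
  have hN := NotCT.Orders.m11 h
  have := Fact.mk Nat.prime_two
  obtain ⟨x, hx⟩ := exists_prime_orderOf_dvd_card' 2 (hN ▸ (by norm_num : 2 ∣ 7920) : 2 ∣ Nat.card K)
  exact ⟨_, index_of_card hN (S0435.result ⟨inferInstance, hN⟩ x hx) (by norm_num) (by norm_num)⟩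

theorem m22_77 (h : Spor.IsoM22 K) : ∃ X : Subgroup K, X.index = 77 := by
  obtain ⟨e⟩ := h
  obtain ⟨O, hO, h1, h2⟩ := SporadicStructure.CrossCrit.exists_octad_pair (a := none) (b := some 0) (by simp)
  exact exists_index_congr e ⟨_, Omega.ML.LocM22.index_stab hO h1 h2⟩

theorem m12_495 (h : Spor.IsoM12 K) : ∃ X : Subgroup K, X.index = 495 := by
  obtain ⟨e⟩ := h
  exact exists_index_congr (e.trans CoThreeStd.M12.equiv) ⟨_, Omega.Quasithin.M12.index_eq⟩

theorem mcl_275 (h : Spor.IsoMcL K) : ∃ X : Subgroup K, X.index = 275 := by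
  obtain ⟨e⟩ := h
  obtain ⟨H, Y, _, _, _, _, a, b, c, h3, -, -, ⟨f⟩⟩ := SporadicRecognition.McLAssemble.mcl_rank
  have := h3.trans
  refine exists_index_congr (e.trans f.symm) ⟨MulAction.stabilizer H a, ?_⟩
  rw [MulAction.index_stabilizer_of_transitive, h3.cardX]

theorem j2_315 (h : Spor.IsoJ2 K) : ∃ X : Subgroup K, X.index = 315 := by
  obtain ⟨e⟩ := h
  have hN : Nat.card Spor.J2 = 604800 := NotCT.Orders.j2 ⟨MulEquiv.refl _⟩
  by_cases hf : ∃ f : Equiv.Perm Spor.icoLeech, Spor.IsIcoReflection f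
  · obtain ⟨f, hf⟩ := hf
    have hfm : f ∈ Spor.twoJ2 := Subgroup.subset_closure hf
    obtain ⟨Q, hQn, hQ, -, ⟨g⟩⟩ := S1623.result f hf hfm
    refine exists_index_congr e ⟨Subgroup.centralizer {(QuotientGroup.mk ⟨f, hfm⟩ : Spor.J2)},
      index_of_card hN (m := 1920) ?_ (by norm_num) (by norm_num)⟩
    · have h1 : Nat.card (alternatingGroup (Fin 5)) = 60 := by
        rw [nat_card_alternatingGroup]
        simp [Nat.factorial]
      rw [Subgroup.card_eq_card_quotient_mul_card_subgroup Q, Nat.card_congr g.toEquiv, hQ, h1]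
  · exfalso
    have h1 : {f | Spor.IsIcoReflection f} = ∅ := by
      ext f
      simp only [Set.mem_setOf_eq, Set.mem_empty_iff_false, iff_false]
      exact fun h => hf ⟨f, h⟩
    have h2 : Spor.twoJ2 = ⊥ := by
      rw [Spor.twoJ2, h1, Subgroup.closure_empty]
    have h3 : Subsingleton Spor.twoJ2 := by
      rw [h2]
      infer_instance
    have h4 : Subsingleton Spor.J2 := inferInstanceAs (Subsingleton (_ ⧸ _))
    rw [Nat.card_unique] at hN
    omega

theorem fi24_306936 (h : Spor.IsoFi24' K) : ∃ X : Subgroup K, X ≠ ⊤ ∧ X.index ∣ 306936 := by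
  obtain ⟨e⟩ := h
  suffices hs : ∃ X : Subgroup Spor.Fi24', X ≠ ⊤ ∧ X.index ∣ 306936 by
    obtain ⟨X, hX1, hX⟩ := hs
    refine ⟨X.comap e.toMonoidHom, fun h => hX1 ?_, ?_⟩
    · rw [eq_top_iff]
      intro x _
      obtain ⟨y, rfl⟩ := e.surjective x
      exact (h ▸ Subgroup.mem_top y : y ∈ X.comap e.toMonoidHom)
    · rwa [Subgroup.index_comap_of_surjective _ e.surjective]
  set H := (Subgroup.closure ({Cfsg.Spor.Fi24.a, Cfsg.Spor.Fi24.b, Cfsg.Spor.Fi24.c, Cfsg.Spor.Fi24.d, Cfsg.Spor.Fi24.e, Cfsg.Spor.Fi24.f, Cfsg.Spor.Fi24.g, Cfsg.Spor.Fi24.h, Cfsg.Spor.Fi24.i, Cfsg.Spor.Fi24.j, Cfsg.Spor.Fi24.l} : Set (FreeGroup Cfsg.Spor.Fi24.Gen))).map (PresentedGroup.mk (Cfsg.Spor.coxRelators Cfsg.Spor.Fi24.edges ∪ {r | r ∈ Cfsg.Spor.Fi24.extra})) with hH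
  have h1 : H.index = 306936 := S1690.result
  have h2 : (commutator Spor.Fi24).index = 2 := S1691.result
  refine ⟨H.subgroupOf (commutator Spor.Fi24), fun ht => ?_, ?_⟩
  · have h7 := Subgroup.index_dvd_of_le (Subgroup.subgroupOf_eq_top.1 ht)
    rw [h1, h2] at h7
    exact absurd h7 (by norm_num)
  have h3 : (commutator Spor.Fi24).relIndex H ∣ 2 := h2 ▸ Subgroup.relIndex_dvd_index_of_normal _ _
  have h4 := Subgroup.relIndex_mul_index (inf_le_left : H ⊓ commutator Spor.Fi24 ≤ H)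
  have h5 := Subgroup.relIndex_mul_index (inf_le_right : H ⊓ commutator Spor.Fi24 ≤ commutator Spor.Fi24)
  rw [Subgroup.inf_relIndex_left, h1] at h4
  rw [Subgroup.inf_relIndex_right, h2] at h5
  change H.relIndex (commutator Spor.Fi24) ∣ 306936
  obtain ⟨c, hc⟩ := h3
  refine ⟨c, ?_⟩
  have h6 : (H.relIndex (commutator Spor.Fi24) * c) * 2 = 306936 * 2 := by
    calc _ = (H.relIndex (commutator Spor.Fi24) * 2) * c := by ring
      _ = ((commutator Spor.Fi24).relIndex H * 306936) * c := by rw [h5, h4]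
      _ = ((commutator Spor.Fi24).relIndex H * c) * 306936 := by ring
      _ = _ := by rw [← hc, mul_comm]
  omega

theorem co1_98280 (h : Spor.IsoCo1 K) : ∃ X : Subgroup K, X.index = 98280 := by
  obtain ⟨e⟩ := h
  have hN : Nat.card Spor.Co1 = 4157776806543360000 := NotCT.Orders.co1 ⟨MulEquiv.refl _⟩
  have hC : Nat.card Spor.Co2 = 42305421312000 := NotCT.Orders.co2 ⟨MulEquiv.refl _⟩
  have hle : Spor.Co2 ≤ Co0 := inf_le_left
  have hs := Schreier.CoTwoStab.isSimpleGroup
  let f : Spor.Co2 →* Spor.Co1 := (QuotientGroup.mk' (Subgroup.center Co0)).comp (Subgroup.inclusion hle)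
  have hf : Function.Injective f := by
    rw [← MonoidHom.ker_eq_bot_iff]
    rcases (inferInstance : f.ker.Normal).eq_bot_or_eq_top with h | h
    · exact h
    · exfalso
      have hcomm : ∀ a b : Spor.Co2, a * b = b * a := by
        intro a b
        have ha : Subgroup.inclusion hle a ∈ Subgroup.center Co0 := by
          rw [← QuotientGroup.ker_mk' (Subgroup.center Co0)]
          exact (h ▸ Subgroup.mem_top a : a ∈ f.ker)
        have h2 := Subgroup.mem_center_iff.1 ha (Subgroup.inclusion hle b)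
        apply Subgroup.inclusion_injective hle
        rw [map_mul, map_mul, h2]
      have h3 : ¬ Group.IsSolvable Spor.Co2 := not_solvable hC (by norm_num)
      exact h3 (Group.isSolvable_of_comm hcomm)
  refine exists_index_congr e ⟨f.range, index_of_card hN ?_ (x := 98280) (m := 42305421312000) (by norm_num) (by norm_num)⟩
  rw [← hC]
  exact (Nat.card_congr (MonoidHom.ofInjective hf).toEquiv).symm

/-- `2.B` in the Monster -/
theorem m_twoB (h : Spor.IsoM K) : ∃ X : Subgroup K, X.index = 97239461142009186000 := by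
  obtain ⟨e⟩ := h
  have hN : Nat.card Spor.Monster = 808017424794512875886459904961710757005754368000000000 :=
    NotCT.Orders.m ⟨MulEquiv.refl _⟩
  obtain ⟨y, -, h1, ⟨f⟩, -⟩ := S5534.result
  have hB : Nat.card Spor.BabyMonster = 4154781481226426191177580544000000 := NotCT.Orders.b ⟨MulEquiv.refl _⟩
  refine exists_index_congr e ⟨Subgroup.centralizer {y},
    index_of_card hN (m := 8309562962452852382355161088000000) ?_ (by norm_num) (by norm_num)⟩
  rw [Subgroup.card_eq_card_quotient_mul_card_subgroup (Subgroup.center (Subgroup.centralizer {y})),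
    Nat.card_congr f.toEquiv, hB, h1]

/-- `2^(1+24).Co1` in the Monster -/
theorem m_co1 (h : Spor.IsoM K) : ∃ X : Subgroup K, X.index = 5791748068511982636944259375 := by
  obtain ⟨e⟩ := h
  have hN : Nat.card Spor.Monster = 808017424794512875886459904961710757005754368000000000 :=
    NotCT.Orders.m ⟨MulEquiv.refl _⟩
  obtain ⟨z, Q, hQn, ⟨-, -, -, hQ, -⟩, f, -⟩ := S5542.result
  have hC : Nat.card Spor.Co1 = 4157776806543360000 := NotCT.Orders.co1 ⟨MulEquiv.refl _⟩
  refine exists_index_congr e ⟨Subgroup.centralizer {z},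
    index_of_card hN (m := 4157776806543360000 * 2 ^ (2 * 12 + 1)) ?_ (by norm_num) (by norm_num)⟩
  rw [Subgroup.card_eq_card_quotient_mul_card_subgroup Q, Nat.card_congr f.toEquiv, hC, hQ]

/-! ### odd index -/

theorem odd_sheet [Finite K] [IsSimpleGroup K] {z : K} {P R : Subgroup K} (h : OddHalf.D8.Sheet.SheetE z P R) :
    OddX K := by
  obtain ⟨S, -, hS, -⟩ := h.syl
  refine oddX_of_sylow h.z1 hS h.cen h.perf fun hP => h.z1 ?_
  have := h.RP h.zR
  rw [hP, Subgroup.mem_bot] at this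
  exact this

theorem j3_odd [Finite K] [IsSimpleGroup K] (h : Spor.IsoJ3 K) : OddX K := by
  obtain ⟨z, P, R, hs⟩ := OddHalf.D8.RowJ3.sheet K inferInstance h
  exact odd_sheet hs

theorem suz_odd [Finite K] [IsSimpleGroup K] (h : Spor.IsoSuz K) : OddX K := by
  obtain ⟨z, P, R, hs, -⟩ := KFacts.SuzSheets.exists_sheets K h
  exact odd_sheet hs

theorem co1_odd [Finite K] [IsSimpleGroup K] (h : Spor.IsoCo1 K) : OddX K := by
  obtain ⟨z, P, R, hs, -⟩ := KFacts.Co1.CaseM.exists_sheets K h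
  exact odd_sheet hs

theorem b_odd [Finite K] [IsSimpleGroup K] (h : Spor.IsoB K) : OddX K := by
  obtain ⟨z, P, R, hs, -⟩ := OddHalf.D8.RowB.facts K inferInstance h
  exact odd_sheet hs

/-- transport -/
theorem OddX.congr {G : Type*} [Group G] (e : K ≃* G) (h : OddX G) : OddX K := by
  obtain ⟨X, hX, ⟨r, hr, hr2, hrX⟩, hi⟩ := h
  refine ⟨X.comap e.toMonoidHom, ?_, ⟨r, hr, hr2, ?_⟩, ?_⟩
  · intro h
    apply hX
    rw [eq_top_iff]
    intro x _
    obtain ⟨y, rfl⟩ := e.surjective x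
    exact (h ▸ Subgroup.mem_top y : y ∈ X.comap e.toMonoidHom)
  · have : Nat.card (X.comap e.toMonoidHom) = Nat.card X := by
      rw [Subgroup.comap_equiv_eq_map_symm']
      exact (Nat.card_congr (e.symm.subgroupMap X).toEquiv).symm
    rw [this]
    exact hrX
  · rwa [Subgroup.index_comap_of_surjective _ e.surjective]

theorem hn_odd [Finite K] [IsSimpleGroup K] (h : Spor.IsoHN K) : OddX K := by
  obtain ⟨e⟩ := h
  have : Finite Spor.HN := Finite.of_equiv K e.toEquiv
  have hs : IsSimpleGroup Spor.HN := e.symm.isSimpleGroup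
  exact OddX.congr e (odd_sheet KFacts.HN.sheetE)

theorem hs_odd [Finite K] [IsSimpleGroup K] (h : Spor.IsoHS K) : OddX K := by
  obtain ⟨z, v, k, P, R, hs, -⟩ := KFacts.HS.exists_sheet h
  obtain ⟨S, -, hS, -⟩ := hs.syl
  have hvP : v ∈ P := hs.RP hs.uR
  refine oddX_of_sylow hs.z1 hS (fun x hx => ?_) hs.perf fun hP => hs.z1 ?_
  · have h1 := (hs.memP x).1 hx
    rw [← hs.uu, ← mul_assoc, h1, mul_assoc, h1, mul_assoc]
  · rw [hP, Subgroup.mem_bot] at hvP
    rw [← hs.uu, hvP, one_mul]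

end Cfsg.Agent.H584.TwoFacts
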