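import Mathlib
import Cfsg.Agent.TitsK.Inst

/-!
# A subgroup of index 2925 of the Tits group
-/

set_option autoImplicit false

namespace Cfsg.Agent.H584.TwoTits

open Subgroup

/-- `S` is a Sylow 2-subgroup of `T`, `N` acts on three elements, and `S` is the stabilizer of the first one. -/
theorem relIndex_aux {G : Type*} [Group G] [Finite G] {S N T : Subgroup G} (hSN : S ≤ N) (hNT : N ≤ T)
    (hS : IsPGroup 2 S) (hodd : ¬ 2 ∣ S.relIndex T) {a m : ℕ} (hT : Nat.card T = 2 ^ a * (3 * m)) (hm : ¬ 2 ∣ 3 * m)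
    {z z1 z2 : G} (h3 : ∀ g ∈ N, g * z * g⁻¹ = z ∨ g * z * g⁻¹ = z1 ∨ g * z * g⁻¹ = z2)
    (hst : ∀ g ∈ N, g * z * g⁻¹ = z → g ∈ S) (hmv : ∃ g ∈ N, g * z * g⁻¹ ≠ z) (hSz : ∀ g ∈ S, g * z * g⁻¹ = z) :
    N.relIndex T = m := by
  classical
  have hmul : S.relIndex N * N.relIndex T = S.relIndex T := Subgroup.relIndex_mul_relIndex S N T hSN hNT
  have hST : Nat.card S * S.relIndex T = 2 ^ a * (3 * m) := by
    rw [← hT, Subgroup.relIndex, ← (S.subgroupOf T).card_mul_index,
      Nat.card_congr (Subgroup.subgroupOfEquivOfLe (hSN.trans hNT)).toEquiv]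
  have hk : S.relIndex T = 3 * m := by
    have hf := Fact.mk Nat.prime_two
    obtain ⟨k, hk⟩ := hS.exists_card_eq
    rw [hk] at hST
    have c1 : Nat.Coprime (2 ^ k) (3 * m) :=
      Nat.Coprime.pow_left _ ((Nat.Prime.coprime_iff_not_dvd Nat.prime_two).2 hm)
    have c2 : Nat.Coprime (2 ^ a) (S.relIndex T) :=
      Nat.Coprime.pow_left _ ((Nat.Prime.coprime_iff_not_dvd Nat.prime_two).2 hodd)
    apply Nat.dvd_antisymm
    · exact c2.symm.dvd_of_dvd_mul_left (hST ▸ Dvd.intro_left _ rfl)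
    · exact c1.symm.dvd_of_dvd_mul_left (hST ▸ Dvd.intro_left _ rfl)
  have hodd' : ¬ 2 ∣ S.relIndex N := fun h => hodd (hmul ▸ h.mul_right _)
  have hle : S.relIndex N ≤ 3 := by
    let F : Finset G := {z, z1, z2}
    have hF : F.card ≤ 3 := Finset.card_le_three
    let f : (N ⧸ S.subgroupOf N) → F := Quotient.lift
      (fun g : N => (⟨(g : G) * z * (g : G)⁻¹, by
        rcases h3 g g.2 with h | h | h <;> rw [h] <;> simp [F]⟩ : F)) (by
      intro a b hab
      have hab' : a⁻¹ * b ∈ S.subgroupOf N := QuotientGroup.leftRel_apply.1 hab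
      have h1 := hSz _ (Subgroup.mem_subgroupOf.1 hab')
      apply Subtype.ext
      change (a : G) * z * (a : G)⁻¹ = b * z * (b : G)⁻¹
      have h2 : ((a⁻¹ * b : N) : G) = (a : G)⁻¹ * b := rfl
      rw [h2] at h1
      calc (a : G) * z * (a : G)⁻¹ = a * ((a : G)⁻¹ * b * z * ((a : G)⁻¹ * b)⁻¹) * (a : G)⁻¹ := by rw [h1]
        _ = _ := by group)
    have hinj : Function.Injective f := by
      intro x y
      refine Quotient.inductionOn₂ x y fun a b hab => ?_
      have h1 : (a : G) * z * (a : G)⁻¹ = b * z * (b : G)⁻¹ := congrArg Subtype.val hab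
      apply Quotient.sound
      refine QuotientGroup.leftRel_apply.2 (Subgroup.mem_subgroupOf.2 ?_)
      refine hst _ (N.mul_mem (N.inv_mem a.2) b.2) ?_
      change (a : G)⁻¹ * b * z * ((a : G)⁻¹ * b)⁻¹ = z
      calc (a : G)⁻¹ * b * z * ((a : G)⁻¹ * b)⁻¹ = (a : G)⁻¹ * (b * z * (b : G)⁻¹) * a := by group
        _ = (a : G)⁻¹ * (a * z * (a : G)⁻¹) * a := by rw [h1]
        _ = z := by group
    calc S.relIndex N = Nat.card (N ⧸ S.subgroupOf N) := rfl
      _ ≤ Nat.card F := Nat.card_le_card_of_injective f hinj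
      _ = F.card := by simp
      _ ≤ 3 := hF
  have hne : S.relIndex N ≠ 1 := by
    intro h
    obtain ⟨g, hg, hgz⟩ := hmv
    have := Subgroup.relIndex_eq_one.1 h hg
    exact hgz (hSz g this)
  have hne0 : S.relIndex N ≠ 0 := Subgroup.index_ne_zero_of_finite
  have h3' : S.relIndex N = 3 := by
    interval_cases S.relIndex N
    · exact absurd rfl hne0
    · exact absurd rfl hne
    · exact absurd dvd_rfl hodd'
    · rfl
  rw [h3', hk] at hmul
  exact Nat.eq_of_mul_eq_mul_left (by norm_num) hmul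

open Cfsg.Agent.TitsK in
/-- **The Tits group has a subgroup of index 2925.** -/
theorem exists_index {K : Type*} [Group K] (h : Cfsg.Lie.IsoTits K) : ∃ X : Subgroup K, X.index = 2925 := by
  obtain ⟨e⟩ := h
  obtain ⟨f⟩ := Cfsg.Agent.TitsK.exists_equiv
  have hidx : (TT ⊓ Pv).relIndex TT = 2925 := by
    refine relIndex_aux (S := UT ⊓ TT) (N := TT ⊓ Pv) (T := TT) (a := 11) (m := 2925) (z := z) (z1 := z1)
      (z2 := z * z1) (fun g hg => ⟨hg.2, UT_le_Pv hg.1⟩) inf_le_left (isPGroup_UT.to_le inf_le_left) odd_ST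
      (by rw [card_TT]; norm_num) (by norm_num) ?_ ?_ ?_ ?_
    · intro g hg
      have h1 := mem_V4_iff.1 (Pv_conj_V4 hg.2 z_mem_V4)
      rcases h1 with h1 | h1
      · exfalso
        apply z_ne
        have : z = g⁻¹ * (g * z * g⁻¹) * g := by group
        rw [this, h1]
        group
      · exact h1
    · rintro g ⟨hgT, hgP⟩ hgz
      refine ⟨?_, hgT⟩
      obtain ⟨u, hu, v, hv, rfl | rfl⟩ := Pv_cases hgP
      · exact UT.mul_mem hu hv
      · exfalso
        have h1 : u * na * v * z * (u * na * v)⁻¹ = u * (na * (v * z * v⁻¹) * na⁻¹) * u⁻¹ := by group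
        rw [h1, z_central hv, na_conj_z] at hgz
        rcases conj_z1 hu with h2 | h2
        · rw [h2] at hgz
          exact z_not_central (by rw [na_conj_z, hgz])
        · rw [h2] at hgz
          exact z1_ne (by simpa using hgz)
    · exact ⟨na, ⟨na_mem_TT, mem_Pv (TT_le na_mem_TT) fun _ hv => na_conj_V4 hv⟩, z_not_central⟩
    · intro g hg
      exact z_central hg.1
  refine ⟨((TT ⊓ Pv).subgroupOf TT).comap (e.trans f).toMonoidHom, ?_⟩
  rw [Subgroup.index_comap_of_surjective _ (e.trans f).surjective]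
  exact hidx

end Cfsg.Agent.H584.TwoTits
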