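import Mathlib
import Cfsg.Agent.H584.TwoFacts
import Cfsg.Agent.H584.TwoTits
import Cfsg.Agent.H584.TwoAlt
import Cfsg.Agent.H584.TwoCertA
import Cfsg.Agent.H584.TwoCertB
import Cfsg.Agent.H584.TwoCertC
import Cfsg.Agent.H584.TwoCertD
import Cfsg.Agent.H584.TwoCertE
import Cfsg.Agent.H584.TwoCertF
import Cfsg.Agent.H584.TwoCertG

/-!
# The sporadic groups and the Tits group do not have exactly two classes of non-nilpotent maximal subgroups
-/

set_option autoImplicit false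

namespace Cfsg.Agent.H584.TwoSpor

open Cfsg Cfsg.Agent.H580.Two Cfsg.Agent.H584.TwoCore Cfsg.Agent.H584.TwoOdd Cfsg.Agent.H584.TwoFacts

universe u

variable {T : Type u} [Group T] [Finite T] [IsSimpleGroup T]

/-- the property used in `not_twoMax` -/
theorem of_dvd {N x y r : ℕ} (hN : Nat.card T = N) (h : ∃ X : Subgroup T, X.index = x) (hxy : x ∣ y) (hx : x ≠ 1)
    (hr : r.Prime) (hr2 : r ≠ 2) (hrN : r ∣ N / x) :
    ∃ X : Subgroup T, X ≠ ⊤ ∧ (∃ r : ℕ, r.Prime ∧ r ≠ 2 ∧ r ∣ Nat.card X) ∧ X.index ∣ y := by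
  obtain ⟨X, hX⟩ := h
  obtain ⟨X, h1, h2, h3⟩ := exists_of_index hN hX hx hr hr2 hrN
  exact ⟨X, h1, h2, h3.trans hxy⟩


theorem m11 (h : Spor.IsoM11 T) : ¬ TwoMax T := by
  have hN := NotCT.Orders.m11 h
  refine not_twoMax hN (by norm_num) [3, 5, 11] [165] ?_ ?_
    (fun _ _ h₁ h₂ h₃ h₄ h₅ h₆ => TwoNum.m11 h₁ h₂ h₃ h₄ h₅ h₆)
  · simp only [List.forall_mem_cons]
    norm_num
  · simp only [List.forall_mem_cons]
    refine ⟨of_dvd hN (m11_165 h) dvd_rfl (by norm_num) (r := 3) (by norm_num) (by norm_num) (by norm_num), fun x hx => absurd hx (List.not_mem_nil)⟩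

theorem m12 (h : Spor.IsoM12 T) : ¬ TwoMax T := by
  have hN := NotCT.Orders.m12 h
  refine not_twoMax hN (by norm_num) [3, 5, 11] [12, 1485] ?_ ?_
    (fun _ _ h₁ h₂ h₃ h₄ h₅ h₆ => TwoNum.m12 h₁ h₂ h₃ h₄ h₅ h₆)
  · simp only [List.forall_mem_cons]
    norm_num
  · simp only [List.forall_mem_cons]
    refine ⟨of_dvd hN (m12_12 h) dvd_rfl (by norm_num) (r := 3) (by norm_num) (by norm_num) (by norm_num),
      of_dvd hN (m12_495 h) (by norm_num) (by norm_num) (r := 3) (by norm_num) (by norm_num) (by norm_num), fun x hx => absurd hx (List.not_mem_nil)⟩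

theorem m22 (h : Spor.IsoM22 T) : ¬ TwoMax T := by
  have hN := NotCT.Orders.m22 h
  refine not_twoMax hN (by norm_num) [3, 5, 7, 11] [77] ?_ ?_
    (fun _ _ h₁ h₂ h₃ h₄ h₅ h₆ => TwoNum.m22 h₁ h₂ h₃ h₄ h₅ h₆)
  · simp only [List.forall_mem_cons]
    norm_num
  · simp only [List.forall_mem_cons]
    refine ⟨of_dvd hN (m22_77 h) dvd_rfl (by norm_num) (r := 3) (by norm_num) (by norm_num) (by norm_num), fun x hx => absurd hx (List.not_mem_nil)⟩

theorem m23 (h : Spor.IsoM23 T) : ¬ TwoMax T := by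
  have hN := NotCT.Orders.m23 h
  refine not_twoMax hN (by norm_num) [3, 5, 7, 11, 23] [] ?_ ?_
    (fun _ _ h₁ h₂ h₃ h₄ h₅ h₆ => TwoNum.m23 h₁ h₂ h₃ h₄ h₅ h₆)
  · simp only [List.forall_mem_cons]
    norm_num
  · intro x hx
    exact absurd hx (List.not_mem_nil)

theorem m24 (h : Spor.IsoM24 T) : ¬ TwoMax T := by
  have hN := NotCT.Orders.m24 h
  refine not_twoMax hN (by norm_num) [3, 5, 7, 11, 23] [] ?_ ?_
    (fun _ _ h₁ h₂ h₃ h₄ h₅ h₆ => TwoNum.m24 h₁ h₂ h₃ h₄ h₅ h₆)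
  · simp only [List.forall_mem_cons]
    norm_num
  · intro x hx
    exact absurd hx (List.not_mem_nil)

theorem j1 (h : Spor.IsoJ1 T) : ¬ TwoMax T := by
  have hN := NotCT.Orders.j1 h
  refine not_twoMax hN (by norm_num) [3, 5, 7, 11, 19] [] ?_ ?_
    (fun _ _ h₁ h₂ h₃ h₄ h₅ h₆ => TwoNum.j1 h₁ h₂ h₃ h₄ h₅ h₆)
  · simp only [List.forall_mem_cons]
    norm_num
  · intro x hx
    exact absurd hx (List.not_mem_nil)

theorem j2 (h : Spor.IsoJ2 T) : ¬ TwoMax T := by
  have hN := NotCT.Orders.j2 h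
  refine not_twoMax hN (by norm_num) [3, 5, 7] [100, 315] ?_ ?_
    (fun _ _ h₁ h₂ h₃ h₄ h₅ h₆ => TwoNum.j2 h₁ h₂ h₃ h₄ h₅ h₆)
  · simp only [List.forall_mem_cons]
    norm_num
  · simp only [List.forall_mem_cons]
    refine ⟨of_dvd hN (j2_100 h) dvd_rfl (by norm_num) (r := 3) (by norm_num) (by norm_num) (by norm_num),
      of_dvd hN (j2_315 h) dvd_rfl (by norm_num) (r := 3) (by norm_num) (by norm_num) (by norm_num), fun x hx => absurd hx (List.not_mem_nil)⟩

theorem j3 (h : Spor.IsoJ3 T) : ¬ TwoMax T := by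
  have hN := NotCT.Orders.j3 h
  refine not_twoMax hN (by norm_num) [3, 5, 17, 19] [392445] ?_ ?_
    (fun _ _ h₁ h₂ h₃ h₄ h₅ h₆ => TwoNum.j3 h₁ h₂ h₃ h₄ h₅ h₆)
  · simp only [List.forall_mem_cons]
    norm_num
  · simp only [List.forall_mem_cons]
    refine ⟨(j3_odd h).exists hN (a := 7) (by norm_num), fun x hx => absurd hx (List.not_mem_nil)⟩

theorem hs (h : Spor.IsoHS T) : ¬ TwoMax T := by
  have hN := NotCT.Orders.hs h
  refine not_twoMax hN (by norm_num) [3, 5, 7, 11] [86625] ?_ ?_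
    (fun _ _ h₁ h₂ h₃ h₄ h₅ h₆ => TwoNum.hs h₁ h₂ h₃ h₄ h₅ h₆)
  · simp only [List.forall_mem_cons]
    norm_num
  · simp only [List.forall_mem_cons]
    refine ⟨(hs_odd h).exists hN (a := 9) (by norm_num), fun x hx => absurd hx (List.not_mem_nil)⟩

theorem mcl (h : Spor.IsoMcL T) : ¬ TwoMax T := by
  have hN := NotCT.Orders.mcl h
  refine not_twoMax hN (by norm_num) [3, 5, 7, 11] [7016625] ?_ ?_
    (fun _ _ h₁ h₂ h₃ h₄ h₅ h₆ => TwoNum.mcl h₁ h₂ h₃ h₄ h₅ h₆)
  · simp only [List.forall_mem_cons]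
    norm_num
  · simp only [List.forall_mem_cons]
    refine ⟨of_dvd hN (mcl_275 h) (by norm_num) (by norm_num) (r := 3) (by norm_num) (by norm_num) (by norm_num), fun x hx => absurd hx (List.not_mem_nil)⟩

theorem he (h : Spor.IsoHe T) : ¬ TwoMax T := by
  have hN := NotCT.Orders.he h
  refine not_twoMax hN (by norm_num) [3, 5, 7, 17] [2058] ?_ ?_
    (fun _ _ h₁ h₂ h₃ h₄ h₅ h₆ => TwoNum.he h₁ h₂ h₃ h₄ h₅ h₆)
  · simp only [List.forall_mem_cons]
    norm_num
  · simp only [List.forall_mem_cons]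
    refine ⟨of_dvd hN (he_2058 h) dvd_rfl (by norm_num) (r := 3) (by norm_num) (by norm_num) (by norm_num), fun x hx => absurd hx (List.not_mem_nil)⟩

theorem ru (h : Spor.IsoRu T) : ¬ TwoMax T := by
  have hN := NotCT.Orders.ru h
  refine not_twoMax hN (by norm_num) [3, 5, 7, 13, 29] [4060] ?_ ?_
    (fun _ _ h₁ h₂ h₃ h₄ h₅ h₆ => TwoNum.ru h₁ h₂ h₃ h₄ h₅ h₆)
  · simp only [List.forall_mem_cons]
    norm_num
  · simp only [List.forall_mem_cons]
    refine ⟨of_dvd hN (ru_4060 h) dvd_rfl (by norm_num) (r := 3) (by norm_num) (by norm_num) (by norm_num), fun x hx => absurd hx (List.not_mem_nil)⟩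

theorem suz (h : Spor.IsoSuz T) : ¬ TwoMax T := by
  have hN := NotCT.Orders.suz h
  refine not_twoMax hN (by norm_num) [3, 5, 7, 11, 13] [1782, 54729675] ?_ ?_
    (fun _ _ h₁ h₂ h₃ h₄ h₅ h₆ => TwoNum.suz h₁ h₂ h₃ h₄ h₅ h₆)
  · simp only [List.forall_mem_cons]
    norm_num
  · simp only [List.forall_mem_cons]
    refine ⟨of_dvd hN (suz_1782 h) dvd_rfl (by norm_num) (r := 3) (by norm_num) (by norm_num) (by norm_num),
      (suz_odd h).exists hN (a := 13) (by norm_num), fun x hx => absurd hx (List.not_mem_nil)⟩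

theorem on (h : Spor.IsoON T) : ¬ TwoMax T := by
  have hN := NotCT.Orders.on h
  refine not_twoMax hN (by norm_num) [3, 5, 7, 11, 19, 31] [122760] ?_ ?_
    (fun _ _ h₁ h₂ h₃ h₄ h₅ h₆ => TwoNum.on h₁ h₂ h₃ h₄ h₅ h₆)
  · simp only [List.forall_mem_cons]
    norm_num
  · simp only [List.forall_mem_cons]
    refine ⟨of_dvd hN (on_122760 h) dvd_rfl (by norm_num) (r := 3) (by norm_num) (by norm_num) (by norm_num), fun x hx => absurd hx (List.not_mem_nil)⟩

theorem co3 (h : Spor.IsoCo3 T) : ¬ TwoMax T := by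
  have hN := NotCT.Orders.co3 h
  refine not_twoMax hN (by norm_num) [3, 5, 7, 11, 23] [11178] ?_ ?_
    (fun _ _ h₁ h₂ h₃ h₄ h₅ h₆ => TwoNum.co3 h₁ h₂ h₃ h₄ h₅ h₆)
  · simp only [List.forall_mem_cons]
    norm_num
  · simp only [List.forall_mem_cons]
    refine ⟨of_dvd hN (co3_11178 h) dvd_rfl (by norm_num) (r := 3) (by norm_num) (by norm_num) (by norm_num), fun x hx => absurd hx (List.not_mem_nil)⟩

theorem co2 (h : Spor.IsoCo2 T) : ¬ TwoMax T := by
  have hN := NotCT.Orders.co2 h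
  refine not_twoMax hN (by norm_num) [3, 5, 7, 11, 23] [2300, 47104] ?_ ?_
    (fun _ _ h₁ h₂ h₃ h₄ h₅ h₆ => TwoNum.co2 h₁ h₂ h₃ h₄ h₅ h₆)
  · simp only [List.forall_mem_cons]
    norm_num
  · simp only [List.forall_mem_cons]
    refine ⟨of_dvd hN (co2_2300 h) dvd_rfl (by norm_num) (r := 3) (by norm_num) (by norm_num) (by norm_num),
      of_dvd hN (co2_47104 h) dvd_rfl (by norm_num) (r := 3) (by norm_num) (by norm_num) (by norm_num), fun x hx => absurd hx (List.not_mem_nil)⟩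

theorem fi22 (h : Spor.IsoFi22 T) : ¬ TwoMax T := by
  have hN := NotCT.Orders.fi22 h
  refine not_twoMax hN (by norm_num) [3, 5, 7, 11, 13] [3510, 14080] ?_ ?_
    (fun _ _ h₁ h₂ h₃ h₄ h₅ h₆ => TwoNum.fi22 h₁ h₂ h₃ h₄ h₅ h₆)
  · simp only [List.forall_mem_cons]
    norm_num
  · simp only [List.forall_mem_cons]
    refine ⟨of_dvd hN (fi22_3510 h) dvd_rfl (by norm_num) (r := 3) (by norm_num) (by norm_num) (by norm_num),
      of_dvd hN (fi22_14080 h) dvd_rfl (by norm_num) (r := 3) (by norm_num) (by norm_num) (by norm_num), fun x hx => absurd hx (List.not_mem_nil)⟩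

theorem hn (h : Spor.IsoHN T) : ¬ TwoMax T := by
  have hN := NotCT.Orders.hn h
  refine not_twoMax hN (by norm_num) [3, 5, 7, 11, 19] [1539000, 16664484375] ?_ ?_
    (fun _ _ h₁ h₂ h₃ h₄ h₅ h₆ => TwoNum.hn h₁ h₂ h₃ h₄ h₅ h₆)
  · simp only [List.forall_mem_cons]
    norm_num
  · simp only [List.forall_mem_cons]
    refine ⟨of_dvd hN (hn_1539000 h) dvd_rfl (by norm_num) (r := 3) (by norm_num) (by norm_num) (by norm_num),
      (hn_odd h).exists hN (a := 14) (by norm_num), fun x hx => absurd hx (List.not_mem_nil)⟩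

theorem tits (h : Lie.IsoTits T) : ¬ TwoMax T := by
  have hN := NotCT.Orders.tits h
  refine not_twoMax hN (by norm_num) [3, 5, 13] [2925] ?_ ?_
    (fun _ _ h₁ h₂ h₃ h₄ h₅ h₆ => TwoNum.tits h₁ h₂ h₃ h₄ h₅ h₆)
  · simp only [List.forall_mem_cons]
    norm_num
  · simp only [List.forall_mem_cons]
    refine ⟨of_dvd hN (TwoTits.exists_index h) dvd_rfl (by norm_num) (r := 3) (by norm_num) (by norm_num) (by norm_num), fun x hx => absurd hx (List.not_mem_nil)⟩

theorem th (h : Spor.IsoTh T) : ¬ TwoMax T := by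
  have hN := NotCT.Orders.th h
  refine not_twoMax hN (by norm_num) [3, 5, 7, 13, 19, 31] [143127000] ?_ ?_
    (fun _ _ h₁ h₂ h₃ h₄ h₅ h₆ => TwoNum.th h₁ h₂ h₃ h₄ h₅ h₆)
  · simp only [List.forall_mem_cons]
    norm_num
  · simp only [List.forall_mem_cons]
    refine ⟨of_dvd hN (th_143127000 h) dvd_rfl (by norm_num) (r := 3) (by norm_num) (by norm_num) (by norm_num), fun x hx => absurd hx (List.not_mem_nil)⟩

theorem co1 (h : Spor.IsoCo1 T) : ¬ TwoMax T := by
  have hN := NotCT.Orders.co1 h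
  refine not_twoMax hN (by norm_num) [3, 5, 7, 11, 13, 23] [98280, 1982582476875] ?_ ?_
    (fun _ _ h₁ h₂ h₃ h₄ h₅ h₆ => TwoNum.co1 h₁ h₂ h₃ h₄ h₅ h₆)
  · simp only [List.forall_mem_cons]
    norm_num
  · simp only [List.forall_mem_cons]
    refine ⟨of_dvd hN (co1_98280 h) dvd_rfl (by norm_num) (r := 3) (by norm_num) (by norm_num) (by norm_num),
      (co1_odd h).exists hN (a := 21) (by norm_num), fun x hx => absurd hx (List.not_mem_nil)⟩

theorem ly (h : Spor.IsoLy T) : ¬ TwoMax T := by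
  have hN := NotCT.Orders.ly h
  refine not_twoMax hN (by norm_num) [3, 5, 7, 11, 31, 37, 67] [] ?_ ?_
    (fun _ _ h₁ h₂ h₃ h₄ h₅ h₆ => TwoNum.ly h₁ h₂ h₃ h₄ h₅ h₆)
  · simp only [List.forall_mem_cons]
    norm_num
  · intro x hx
    exact absurd hx (List.not_mem_nil)

theorem fi23 (h : Spor.IsoFi23 T) : ¬ TwoMax T := by
  have hN := NotCT.Orders.fi23 h
  refine not_twoMax hN (by norm_num) [3, 5, 7, 11, 13, 17, 23] [31671] ?_ ?_
    (fun _ _ h₁ h₂ h₃ h₄ h₅ h₆ => TwoNum.fi23 h₁ h₂ h₃ h₄ h₅ h₆)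
  · simp only [List.forall_mem_cons]
    norm_num
  · simp only [List.forall_mem_cons]
    refine ⟨of_dvd hN (fi23_31671 h) dvd_rfl (by norm_num) (r := 3) (by norm_num) (by norm_num) (by norm_num), fun x hx => absurd hx (List.not_mem_nil)⟩

theorem j4 (h : Spor.IsoJ4 T) : ¬ TwoMax T := by
  have hN := NotCT.Orders.j4 h
  refine not_twoMax hN (by norm_num) [3, 5, 7, 11, 23, 29, 31, 37, 43] [] ?_ ?_
    (fun _ _ h₁ h₂ h₃ h₄ h₅ h₆ => TwoNum.j4 h₁ h₂ h₃ h₄ h₅ h₆)
  · simp only [List.forall_mem_cons]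
    norm_num
  · intro x hx
    exact absurd hx (List.not_mem_nil)

theorem fi24 (h : Spor.IsoFi24' T) : ¬ TwoMax T := by
  have hN := NotCT.Orders.fi24 h
  refine not_twoMax hN (by norm_num) [3, 5, 7, 11, 13, 17, 23, 29] [306936] ?_ ?_
    (fun _ _ h₁ h₂ h₃ h₄ h₅ h₆ => TwoNum.fi24 h₁ h₂ h₃ h₄ h₅ h₆)
  · simp only [List.forall_mem_cons]
    norm_num
  · simp only [List.forall_mem_cons]
    refine ⟨?_, fun x hx => absurd hx (List.not_mem_nil)⟩
    obtain ⟨X, h1, h2⟩ := fi24_306936 h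
    refine ⟨X, h1, ⟨5, by norm_num, by norm_num, ?_⟩, h2⟩
    have h3 : 5 ∣ Nat.card X * X.index := by rw [X.card_mul_index, hN]; norm_num
    exact ((Nat.Prime.dvd_mul (by norm_num)).1 h3).resolve_right fun h => absurd (h.trans h2) (by norm_num)

theorem b (h : Spor.IsoB T) : ¬ TwoMax T := by
  have hN := NotCT.Orders.b h
  refine not_twoMax hN (by norm_num) [3, 5, 7, 11, 13, 17, 19, 23, 31, 47] [1889375872099856765625] ?_ ?_ ?_
  · simp only [List.forall_mem_cons]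
    norm_num
  · simp only [List.forall_mem_cons]
    refine ⟨(b_odd h).exists hN (a := 41) (by norm_num), fun x hx => absurd hx (List.not_mem_nil)⟩
  · intro n₁ n₂ h₁ h₂ h₃ h₄ h₅ h₆
    rcases h₆ _ (List.mem_singleton_self _) with h | h
    · exact TwoNum.baby h h₂ h₃ h₄ h₅
    · exact TwoNum.baby h h₁ h₄ h₃ (fun p hp => (h₅ p hp).symm)

theorem m (h : Spor.IsoM T) : ¬ TwoMax T := by
  have hN := NotCT.Orders.m h
  refine not_twoMax hN (by norm_num) [3, 5, 7, 11, 13, 17, 19, 23, 29, 31, 41, 47, 59, 71] [97239461142009186000, 5791748068511982636944259375] ?_ ?_ ?_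
  · simp only [List.forall_mem_cons]
    norm_num
  · simp only [List.forall_mem_cons]
    refine ⟨of_dvd hN (m_twoB h) dvd_rfl (by norm_num) (r := 3) (by norm_num) (by norm_num) (by norm_num),
      of_dvd hN (m_co1 h) dvd_rfl (by norm_num) (r := 3) (by norm_num) (by norm_num) (by norm_num),
      fun x hx => absurd hx (List.not_mem_nil)⟩
  · have hg : Nat.gcd 97239461142009186000 5791748068511982636944259375 = 6077466321375574125 := by norm_num
    intro n₁ n₂ h₁ h₂ h₃ h₄ h₅ h₆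
    have h₅' : ∀ p ∈ ([3, 5, 7, 11, 13, 17, 19, 23, 29, 31, 41, 47, 59, 71] : List ℕ), n₂ % p = 1 ∨ n₁ % p = 1 :=
      fun p hp => (h₅ p hp).symm
    have a1 := h₆ 97239461142009186000 (by simp)
    have a2 := h₆ 5791748068511982636944259375 (by simp)
    rcases a1 with a1 | a1 <;> rcases a2 with a2 | a2
    · exact TwoNum.monsterB (hg ▸ Nat.dvd_gcd a1 a2) h₂ h₃ h₄ h₅
    · exact TwoNum.monsterA a1 a2 h₃ h₄ h₅
    · exact TwoNum.monsterA a1 a2 h₄ h₃ h₅'
    · exact TwoNum.monsterB (hg ▸ Nat.dvd_gcd a1 a2) h₁ h₄ h₃ h₅'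

/-- **No sporadic group has at most two classes of non-nilpotent maximal subgroups.** -/
theorem sporadic (h : IsSporadicGroup T) : ¬ TwoMax T := by
  rcases h with h | h | h | h | h | h | h | h | h | h | h | h | h | h | h | h | h | h | h | h | h | h | h | h | h | h
  · exact m11 h
  · exact m12 h
  · exact m22 h
  · exact m23 h
  · exact m24 h
  · exact j1 h
  · exact j2 h
  · exact j3 h
  · exact j4 h
  · exact co1 h
  · exact co2 h
  · exact co3 h
  · exact mcl h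
  · exact hs h
  · exact suz h
  · exact he h
  · exact ru h
  · exact on h
  · exact ly h
  · exact fi22 h
  · exact fi23 h
  · exact fi24 h
  · exact hn h
  · exact th h
  · exact b h
  · exact m h

/-- **Alternating groups** -/
theorem alternating (h : IsAlternating T) : ¬ TwoMax T := by
  obtain ⟨n, hn, ⟨e⟩⟩ := h
  exact TwoAlt.not_twoMax hn e

end Cfsg.Agent.H584.TwoSpor
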