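import Mathlib
import Cfsg.Agent.S0646
import Cfsg.Agent.S0112
import Cfsg.Agent.Lib.DihedralRecog
import Cfsg.Agent.Transfer.TausskyTwoGroup
import Cfsg.Agent.Transfer.MaximalClass

/-!
# 2-groups of maximal class

`trichotomy`: a nonabelian 2-group with a cyclic subgroup of index 2 and centre of order 2 is dihedral,
semidihedral or generalized quaternion (explicit form). Corollaries: for `|S : S'| = 4`, for maximal class, and
for 2-groups containing a subgroup of order 4 or a nonabelian subgroup of order 8 containing its centralizer.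
-/

set_option autoImplicit false

namespace Cfsg.Agent.H584.MaxClass

open Subgroup

universe u

/-- The conclusion: dihedral (order ≥ 8), semidihedral (order ≥ 16) or generalized quaternion (order ≥ 8). -/
def DSQ (S : Type*) [Group S] : Prop :=
  ((∃ k : ℕ, Nonempty (S ≃* DihedralGroup (2 ^ (k + 2)))) ∨
    (∃ k : ℕ, Nat.card S = 2 ^ (k + 4) ∧ ∃ a b : S, orderOf a = 2 ^ (k + 3) ∧ orderOf b = 2 ∧
      b * a * b⁻¹ = a ^ (2 ^ (k + 2) - 1)) ∨
    (∃ k : ℕ, Nonempty (S ≃* QuaternionGroup (2 ^ (k + 1)))))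

theorem trichotomy {S : Type*} [Group S] [Finite S] (n : ℕ) (hn : 3 ≤ n) (hS : Nat.card S = 2 ^ n)
    (hZ : Nat.card (center S) = 2) (C : Subgroup S) (hC : IsCyclic C) (hCi : C.index = 2) : DSQ S := by
  have hna : ∃ x y : S, x * y ≠ y * x := by
    by_contra hcon
    push Not at hcon
    have h1 : center S = ⊤ := by
      rw [eq_top_iff]
      intro x _
      rw [mem_center_iff]
      intro g
      exact hcon g x
    rw [h1, card_top, hS] at hZ
    have : 2 ^ 3 ≤ 2 ^ n := Nat.pow_le_pow_right (by norm_num) hn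
    omega
  obtain ⟨a, b, ha, hb, hcase⟩ := Cfsg.Agent.S0646.result n hn hS C hC hCi hna
  rcases hcase with ⟨h1, h2⟩ | ⟨h1, h2⟩ | ⟨h4, h1, h2⟩ | ⟨h4, h1, h2⟩
  · left
    refine ⟨n - 3, ?_⟩
    have e : 2 ^ (n - 3 + 2) = 2 ^ (n - 1) := by congr 1; omega
    rw [e]
    refine Cfsg.Agent.Lib.DihedralRecog.dihedral_of_generators (by positivity) a b ha
      (by rw [← pow_two, h1]) h2 hb ?_
    rw [hS, ← pow_succ']
    congr 1
    omega
  · right; right
    refine ⟨n - 3, ?_⟩
    have e : 2 ^ (n - 3 + 1) = 2 ^ (n - 2) := by congr 1; omega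
    rw [e]
    refine Cfsg.Agent.Lib.DihedralRecog.quaternion_of_generators (by positivity) a b ?_
      (by rw [← pow_two, h1]) h2 hb ?_
    · rw [ha, ← pow_succ']; congr 1; omega
    · rw [hS, show (4 : ℕ) = 2 ^ 2 by norm_num, ← pow_add]; congr 1; omega
  · exfalso
    -- `a ^ 2` is central
    have hidx : (zpowers a).index = 2 := by
      have h3 := card_mul_index (zpowers a)
      rw [Nat.card_zpowers, ha, hS] at h3
      have h5 : 2 ^ n = 2 ^ (n - 1) * 2 := by rw [← pow_succ]; congr 1; omega
      rw [h5] at h3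
      exact Nat.eq_of_mul_eq_mul_left (by positivity) h3
    have hcomm : b * a ^ 2 * b⁻¹ = a ^ 2 := by
      rw [← conj_pow, h2, ← pow_mul, add_mul, one_mul, pow_add, ← pow_succ,
        show n - 2 + 1 = n - 1 by omega, ← ha, pow_orderOf_eq_one, mul_one]
    have hcen : a ^ 2 ∈ center S := by
      rw [mem_center_iff]
      intro g
      by_cases hg : g ∈ zpowers a
      · obtain ⟨k, rfl⟩ := mem_zpowers_iff.1 hg
        exact ((Commute.refl a).zpow_left k).pow_right 2
      · have hgb : b⁻¹ * g ∈ zpowers a := by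
          rw [mul_mem_iff_of_index_two hidx]
          constructor
          · intro h
            exact absurd (inv_mem_iff.1 h) hb
          · intro h
            exact absurd h hg
        obtain ⟨k, hk⟩ := mem_zpowers_iff.1 hgb
        have hg' : g = b * a ^ k := by rw [hk]; group
        have hcb : b * a ^ 2 = a ^ 2 * b := mul_inv_eq_iff_eq_mul.1 hcomm
        rw [hg']
        calc b * a ^ k * a ^ 2 = b * (a ^ k * a ^ 2) := by rw [mul_assoc]
          _ = b * (a ^ 2 * a ^ k) := by rw [((Commute.refl a).zpow_left k).pow_right 2]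
          _ = b * a ^ 2 * a ^ k := by rw [mul_assoc]
          _ = a ^ 2 * b * a ^ k := by rw [hcb]
          _ = a ^ 2 * (b * a ^ k) := by rw [mul_assoc]
    have hord : orderOf (a ^ 2) ∣ 2 := by
      have h3 := orderOf_dvd_natCard (⟨a ^ 2, hcen⟩ : center S)
      rw [hZ, Subgroup.orderOf_mk] at h3
      exact h3
    have h5 : a ^ 4 = 1 := by
      have := orderOf_dvd_iff_pow_eq_one.1 hord
      rw [← pow_mul] at this
      exact this
    have h6 := orderOf_dvd_of_pow_eq_one h5
    rw [ha] at h6
    have h7 := Nat.le_of_dvd (by norm_num) h6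
    have : 2 ^ 3 ≤ 2 ^ (n - 1) := Nat.pow_le_pow_right (by norm_num) (by omega)
    omega
  · right; left
    refine ⟨n - 4, ?_, a, b, ?_, ?_, ?_⟩
    · rw [hS]; congr 1; omega
    · rw [ha]; congr 1; omega
    · refine orderOf_eq_prime h1 ?_
      rintro rfl
      exact hb (one_mem _)
    · rw [h2, show n - 4 + 2 = n - 2 by omega]

/-- A 2-group of maximal class is dihedral, semidihedral or generalized quaternion. -/
theorem dsq_of_maxClass {S : Type u} [Group S] [Finite S] (n : ℕ) (hn : 3 ≤ n) (hS : Nat.card S = 2 ^ n)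
    (hc : Group.nilpotencyClass S = n - 1) : DSQ S := by
  obtain ⟨C, hC, hCi⟩ :=
    Cfsg.Agent.Transfer.MaximalClass.exists_isCyclic_index_two_of_maxClass n hn S hS hc
  exact trichotomy n hn hS (Cfsg.Agent.Transfer.MaximalClass.card_center_of_maxClass hn hS hc) C hC hCi

/-- Taussky. -/
theorem dsq_of_index_commutator {S : Type u} [Group S] [Finite S] (n : ℕ) (hn : 3 ≤ n)
    (hS : Nat.card S = 2 ^ n) (hc : (commutator S).index = 4) : DSQ S :=
  dsq_of_maxClass n hn hS
    (Cfsg.Agent.Transfer.TausskyTwoGroup.nilpotencyClass_of_index_commutator n hS hc)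

/-- Suzuki. -/
theorem dsq_of_selfcent_four {S : Type u} [Group S] [Finite S] (n : ℕ) (hn : 3 ≤ n)
    (hS : Nat.card S = 2 ^ n) (A : Subgroup S) (hA : Nat.card A = 4)
    (hC : Subgroup.centralizer (A : Set S) = A) : DSQ S :=
  dsq_of_maxClass n hn hS (Cfsg.Agent.S0112.result (p := 2) n hS A (by rw [hA]; norm_num) hC)

end Cfsg.Agent.H584.MaxClass
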