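import Mathlib

/-!
# Two indices: a kernel-computable search over the divisors of a number

`kill`: given `N = ∏ p ^ e` and odd primes `ps`, there are no divisors `n₁, n₂ ≠ 1` of `N` such that each `p` in `ps`
satisfies `n₁ ≡ 1` or `n₂ ≡ 1` modulo `p`, and each number of `idx` is divisible by `n₁` or `n₂`.

The functions are written with recursors, for the kernel.
-/

set_option autoImplicit false

namespace Cfsg.Agent.H584.TwoNum

/-- evaluate `n` to a literal first -/
def force (n : ℕ) (f : ℕ → Bool) : Bool := Nat.rec (f 0) (fun k _ => f (Nat.succ k)) n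

theorem force_eq (n : ℕ) (f : ℕ → Bool) : force n f = f n := by
  cases n <;> rfl

/-- the loop over `i = 0 .. e` of `g (n * p ^ i)` -/
def loopP (g : ℕ → Bool) (p e : ℕ) : ℕ → Bool :=
  Nat.rec g (fun _ ih n => Bool.rec false (force (Nat.mul n p) ih) (g n)) e

/-- all the products `n * ∏ p ^ i`, `i ≤ e` -/
def allDiv (f : ℕ → Bool) (l : List (ℕ × ℕ)) : ℕ → Bool :=
  List.rec f (fun x _ ih => loopP ih x.1 x.2) l

/-- the number of the factorization -/
def num : List (ℕ × ℕ) → ℕ
  | [] => 1
  | x :: l => x.1 ^ x.2 * num l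

theorem loopP_zero (g : ℕ → Bool) (p n : ℕ) : loopP g p 0 n = g n := rfl

theorem loopP_succ (g : ℕ → Bool) (p e n : ℕ) : loopP g p (e + 1) n = (g n && loopP g p e (n * p)) := by
  have h : loopP g p (e + 1) n = Bool.rec false (force (Nat.mul n p) (loopP g p e)) (g n) := rfl
  rw [h, force_eq]
  cases g n <;> rfl

theorem allDiv_nil (f : ℕ → Bool) : allDiv f [] = f := rfl

theorem allDiv_cons (f : ℕ → Bool) (x : ℕ × ℕ) (l : List (ℕ × ℕ)) : allDiv f (x :: l) = loopP (allDiv f l) x.1 x.2 :=
  rfl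

theorem loopP_spec {g : ℕ → Bool} {p : ℕ} : ∀ {e n : ℕ}, loopP g p e n = true →
    ∀ i ≤ e, g (n * p ^ i) = true
  | 0, n, h, i, hi => by
    obtain rfl : i = 0 := by omega
    rw [loopP_zero] at h
    simpa using h
  | e + 1, n, h, i, hi => by
    rw [loopP_succ, Bool.and_eq_true] at h
    rcases i with _ | i
    · simpa using h.1
    · have := loopP_spec h.2 i (by omega)
      rwa [mul_assoc, ← pow_succ'] at this

theorem allDiv_spec {f : ℕ → Bool} : ∀ {l : List (ℕ × ℕ)} {m : ℕ}, (∀ x ∈ l, x.1.Prime) →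
    allDiv f l m = true → ∀ n, n ∣ num l → f (m * n) = true
  | [], m, _, h, n, hn => by
    rw [num, Nat.dvd_one] at hn
    subst hn
    simpa [allDiv] using h
  | x :: l, m, hp, h, n, hn => by
    rw [num, Nat.dvd_mul] at hn
    obtain ⟨a, b, ha, hb, rfl⟩ := hn
    obtain ⟨i, hi, rfl⟩ := (Nat.dvd_prime_pow (hp x (by simp))).1 ha
    rw [allDiv_cons] at h
    have h1 := loopP_spec h i hi
    have h2 := allDiv_spec (fun y hy => hp y (List.mem_cons_of_mem _ hy)) h1 b hb
    rwa [mul_assoc] at h2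

/-- the mask of `n`: the bits tell which primes `p` satisfy `n ≡ 1 mod p` -/
def mask (ps : List ℕ) (n : ℕ) : ℕ :=
  List.rec 0 (fun p _ ih => Bool.rec (Nat.mul 2 ih) (Nat.succ (Nat.mul 2 ih)) (Nat.beq (Nat.mod n p) 1)) ps

theorem mask_nil (n : ℕ) : mask [] n = 0 := rfl

theorem mask_cons (p : ℕ) (ps : List ℕ) (n : ℕ) :
    mask (p :: ps) n = cond (Nat.beq (n % p) 1) (2 * mask ps n + 1) (2 * mask ps n) := by
  have h : mask (p :: ps) n = Bool.rec (Nat.mul 2 (mask ps n)) (Nat.succ (Nat.mul 2 (mask ps n)))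
    (Nat.beq (Nat.mod n p) 1) := rfl
  have h' : Nat.beq (Nat.mod n p) 1 = Nat.beq (n % p) 1 := rfl
  rw [h, h']
  cases Nat.beq (n % p) 1 <;> rfl

/-- two masks together are full -/
def fullOr : ℕ → ℕ → ℕ → Bool
  | 0, _, _ => true
  | k + 1, a, b => (a % 2 == 1 || b % 2 == 1) && fullOr k (a / 2) (b / 2)

/-- two masks together are full -/
def fullM (k a b : ℕ) : Bool := Nat.beq (Nat.lor a b) (Nat.sub (Nat.pow 2 k) 1)

theorem mask_lt : ∀ (ps : List ℕ) (a : ℕ), mask ps a < 2 ^ ps.length
  | [], _ => by simp [mask_nil]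
  | p :: ps, a => by
    have := mask_lt ps a
    rw [mask_cons, List.length_cons, pow_succ]
    cases Nat.beq (a % p) 1
    · rw [cond_false]; omega
    · rw [cond_true]; omega

theorem testBit_mask : ∀ (ps : List ℕ) (n i : ℕ), (mask ps n).testBit i = true ↔ ∃ h : i < ps.length, n % ps[i] = 1
  | [], n, i => by simp [mask_nil]
  | p :: ps, n, 0 => by
    rw [mask_cons, Nat.testBit_zero]
    cases hc : Nat.beq (n % p) 1
    · have hc' : ¬ n % p = 1 := fun h => by
        rw [h] at hc; exact Bool.noConfusion hc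
      simp [hc']
    · have hc' : n % p = 1 := Nat.eq_of_beq_eq_true hc
      simp [hc', Nat.add_mod]
  | p :: ps, n, i + 1 => by
    have h1 : mask (p :: ps) n / 2 = mask ps n := by
      rw [mask_cons]
      cases Nat.beq (n % p) 1
      · rw [cond_false]; omega
      · rw [cond_true]; omega
    rw [Nat.testBit_succ, h1, testBit_mask ps n i]
    simp

theorem fullM_mask {ps : List ℕ} {a b : ℕ} (h : ∀ p ∈ ps, a % p = 1 ∨ b % p = 1) :
    fullM ps.length (mask ps a) (mask ps b) = true := by
  have h1 : mask ps a ||| mask ps b = 2 ^ ps.length - 1 := by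
    apply Nat.eq_of_testBit_eq
    intro i
    rw [Nat.testBit_or, Nat.testBit_two_pow_sub_one, Bool.eq_iff_iff, Bool.or_eq_true, testBit_mask, testBit_mask,
      decide_eq_true_iff]
    constructor
    · rintro (⟨h, -⟩ | ⟨h, -⟩) <;> exact h
    · intro hi
      exact (h _ (List.getElem_mem hi)).imp (fun h => ⟨hi, h⟩) (fun h => ⟨hi, h⟩)
  have h2 : Nat.beq (mask ps a ||| mask ps b) (2 ^ ps.length - 1) = true := by
    rw [h1]; exact Nat.beq_refl _
  exact h2

/-- bit `m` of `B` -/
def bit (B m : ℕ) : Bool := Nat.beq (Nat.land (Nat.shiftRight B m) 1) 1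

/-- membership in a list -/
def memb (n : ℕ) (L : List ℕ) : Bool := List.rec false (fun a _ ih => Bool.rec ih true (Nat.beq n a)) L

theorem mem_of_memb {n : ℕ} : ∀ {L : List ℕ}, memb n L = true → n ∈ L
  | [], h => Bool.noConfusion h
  | a :: L, h => by
    have h' : memb n (a :: L) = Bool.rec (memb n L) true (Nat.beq n a) := rfl
    rw [h'] at h
    cases hc : Nat.beq n a
    · rw [hc] at h
      exact List.mem_cons_of_mem _ (mem_of_memb h)
    · rw [Nat.eq_of_beq_eq_true hc]
      exact List.mem_cons_self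

/-- first check: the mask of every divisor is in the bit set `B`, and if it is in `G`, the divisor is listed -/
def check1 (ps : List ℕ) (B G : ℕ) (GD : List ℕ) (n : ℕ) : Bool :=
  Bool.rec (force (mask ps n) fun m => Bool.rec false (Bool.rec true (memb n GD) (bit G m)) (bit B m)) true (Nat.beq n 1)

theorem check1_spec {ps : List ℕ} {B G : ℕ} {GD : List ℕ} {n : ℕ} (h : check1 ps B G GD n = true) (hn : n ≠ 1) :
    bit B (mask ps n) = true ∧ (bit G (mask ps n) = true → n ∈ GD) := by
  unfold check1 at h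
  have h1 : Nat.beq n 1 = false := by
    cases hc : Nat.beq n 1
    · rfl
    · exact absurd (Nat.eq_of_beq_eq_true hc) hn
  rw [h1, force_eq] at h
  change Bool.rec false (Bool.rec true (memb n GD) (bit G (mask ps n))) (bit B (mask ps n)) = true at h
  cases hB : bit B (mask ps n)
  · rw [hB] at h
    exact Bool.noConfusion h
  · refine ⟨rfl, fun hG => ?_⟩
    rw [hB, hG] at h
    exact mem_of_memb h

/-- second check: two masks of `B` which are full together are in `G` -/
def check2 (k B G : ℕ) : Bool :=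
  let ML := (List.range (2 ^ k)).filter (bit B)
  ML.all fun a => ML.all fun b => Bool.rec true (Bool.rec false (bit G b) (bit G a)) (fullM k a b)

/-- third check: no pair of listed divisors satisfies the conditions -/
def check3 (ps : List ℕ) (GD idx : List ℕ) : Bool :=
  GD.all fun a => GD.all fun b =>
    !(ps.all (fun p => a % p == 1 || b % p == 1) && idx.all (fun x => x % a == 0 || x % b == 0))

/-- The search. -/
theorem kill (l : List (ℕ × ℕ)) (ps : List ℕ) (B G : ℕ) (GD idx : List ℕ)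
    (hl : ∀ x ∈ l, x.1.Prime)
    (h1 : allDiv (check1 ps B G GD) l 1 = true) (h2 : check2 ps.length B G = true)
    (h3 : check3 ps GD idx = true) {n₁ n₂ : ℕ} (hn₁ : n₁ ∣ num l) (hn₂ : n₂ ∣ num l)
    (h₁ : n₁ ≠ 1) (h₂ : n₂ ≠ 1) (hp : ∀ p ∈ ps, n₁ % p = 1 ∨ n₂ % p = 1)
    (hX : ∀ x ∈ idx, n₁ ∣ x ∨ n₂ ∣ x) : False := by
  have c₁ := allDiv_spec hl h1 n₁ hn₁
  have c₂ := allDiv_spec hl h1 n₂ hn₂
  rw [one_mul] at c₁ c₂
  replace c₁ := check1_spec c₁ h₁
  replace c₂ := check1_spec c₂ h₂
  have hf := fullM_mask hp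
  rw [check2] at h2
  simp only [List.all_eq_true, List.mem_filter, List.mem_range, and_imp] at h2
  have g := h2 _ (mask_lt ps n₁) c₁.1 _ (mask_lt ps n₂) c₂.1
  rw [hf] at g
  have gG : bit G (mask ps n₁) = true := by
    cases hc : bit G (mask ps n₁)
    · rw [hc] at g; exact Bool.noConfusion g
    · rfl
  rw [gG] at g
  have d₁ : n₁ ∈ GD := c₁.2 gG
  have d₂ : n₂ ∈ GD := c₂.2 g
  rw [check3] at h3
  simp only [List.all_eq_true] at h3
  have e := h3 n₁ d₁ n₂ d₂
  rw [Bool.not_eq_true', Bool.and_eq_false_iff] at e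
  rcases e with e | e
  · have : ps.all (fun p => n₁ % p == 1 || n₂ % p == 1) = true := by
      rw [List.all_eq_true]
      intro p hp'
      rw [Bool.or_eq_true, beq_iff_eq, beq_iff_eq]
      exact hp p hp'
    rw [this] at e
    exact Bool.noConfusion e
  · have : idx.all (fun x => x % n₁ == 0 || x % n₂ == 0) = true := by
      rw [List.all_eq_true]
      intro x hx
      rw [Bool.or_eq_true, beq_iff_eq, beq_iff_eq]
      exact (hX x hx).imp Nat.mod_eq_zero_of_dvd Nat.mod_eq_zero_of_dvd
    rw [this] at e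
    exact Bool.noConfusion e

end Cfsg.Agent.H584.TwoNum
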