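import Mathlib
import Cfsg.Agent.Lib.DihedralRecog
import Cfsg.Agent.Transfer.TausskyTwoGroup

/-!
# A concrete model `W` of `D₈ ≀ C₂` (order 128)

* `W`: triples `(p, q, s)` with `p q : DihedralGroup 4`, `s : Bool`.
* `Rel a b t`: the defining relations; `lift : W →* G`.
* `injective_of_ne`: a homomorphism from `W` which does not kill the central involution `wz` is injective.
* `mulEquiv_of_rel`: a group of order 128 generated by `a, b, t` with `Rel a b t` is isomorphic to `W`.
* `exists_sylow`: `W` is isomorphic to (every) Sylow 2-subgroup of `Perm (Fin 8)`.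
-/

set_option autoImplicit false

namespace Cfsg.Agent.H584.WrModel

open Subgroup Cfsg.Agent.Lib.DihedralRecog

/-- The dihedral group of order 8. -/
abbrev D := DihedralGroup 4

/-- `D₈ ≀ C₂` -/
@[ext] structure W where
  p : D
  q : D
  s : Bool
deriving DecidableEq

namespace W

def equivProd : W ≃ D × D × Bool where
  toFun w := (w.p, w.q, w.s)
  invFun x := ⟨x.1, x.2.1, x.2.2⟩
  left_inv _ := rfl
  right_inv _ := rfl

instance instFintypeW : Fintype W := Fintype.ofEquiv _ equivProd.symm

instance instMulW : Mul W := ⟨fun x y => ⟨x.p * (bif x.s then y.q else y.p), x.q * (bif x.s then y.p else y.q), xor x.s y.s⟩⟩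

instance instOneW : One W := ⟨⟨1, 1, false⟩⟩

instance instInvW : Inv W := ⟨fun x => ⟨(bif x.s then x.q else x.p)⁻¹, (bif x.s then x.p else x.q)⁻¹, x.s⟩⟩

theorem mul_def (x y : W) :
    x * y = ⟨x.p * (bif x.s then y.q else y.p), x.q * (bif x.s then y.p else y.q), xor x.s y.s⟩ := rfl

theorem one_def : (1 : W) = ⟨1, 1, false⟩ := rfl

theorem inv_def (x : W) : x⁻¹ = ⟨(bif x.s then x.q else x.p)⁻¹, (bif x.s then x.p else x.q)⁻¹, x.s⟩ := rfl

instance instGroupW : Group W := Group.ofLeftAxioms
  (by
    rintro ⟨p, q, s⟩ ⟨p', q', s'⟩ ⟨p'', q'', s''⟩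
    cases s <;> cases s' <;> cases s'' <;> simp [mul_def, mul_assoc])
  (by
    rintro ⟨p, q, s⟩
    simp [mul_def, one_def])
  (by
    rintro ⟨p, q, s⟩
    cases s <;> simp [mul_def, one_def, inv_def])

theorem card_W : Nat.card W = 2 ^ 7 := by
  rw [Nat.card_congr equivProd, Nat.card_prod, Nat.card_prod, DihedralGroup.nat_card, Nat.card_eq_fintype_card,
    Fintype.card_bool]
  norm_num

theorem isPGroup_W : IsPGroup 2 W := IsPGroup.of_card card_W

/-- standard elements -/
def wa : W := ⟨.sr 0, 1, false⟩
def wb : W := ⟨.sr 1, 1, false⟩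
def wc : W := ⟨1, .sr 0, false⟩
def wd : W := ⟨1, .sr 1, false⟩
def wt : W := ⟨1, 1, true⟩
def wz1 : W := ⟨.r 2, 1, false⟩
def wz2 : W := ⟨1, .r 2, false⟩
def wz : W := ⟨.r 2, .r 2, false⟩

/-- the centre of `W` -/
theorem center_le (x : W) (hx : ∀ y : W, x * y = y * x) : x = 1 ∨ x = wz := by
  have h1 := hx wa
  have h2 := hx wb
  have h3 := hx wt
  clear hx
  obtain ⟨p, q, s⟩ := x
  revert p q s
  decide

theorem injective_of_ne {G : Type*} [Group G] (f : W →* G) (h : f wz ≠ 1) : Function.Injective f := by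
  have : Fact (Nat.Prime 2) := ⟨Nat.prime_two⟩
  rw [← MonoidHom.ker_eq_bot_iff]
  by_contra hne
  obtain ⟨x, hx, hxc, hx1⟩ := Cfsg.Agent.Transfer.TausskyTwoGroup.exists_ne_one_mem_inf_center
    (p := 2) isPGroup_W f.ker hne
  rcases center_le x (fun y => (mem_center_iff.1 hxc y).symm) with h1 | h1
  · exact hx1 h1
  · rw [h1] at hx
    exact h hx

end W

open W

/-- The relations of `D₈ ≀ C₂` on generators `a`, `b`, `t`. -/
structure Rel {G : Type*} [Group G] (a b t : G) : Prop where
  aa : a * a = 1
  bb : b * b = 1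
  tt : t * t = 1
  ab : (a * b) ^ 4 = 1
  ac : a * (t * a * t) = t * a * t * a
  ad : a * (t * b * t) = t * b * t * a
  bc : b * (t * a * t) = t * a * t * b
  bd : b * (t * b * t) = t * b * t * b

theorem rel_W : Rel wa wb wt where
  aa := by decide
  bb := by decide
  tt := by decide
  ab := by decide
  ac := by decide
  ad := by decide
  bc := by decide
  bd := by decide

section lift

variable {G : Type*} [Group G] {a b t : G} (h : Rel a b t)
include h

theorem Rel.inv_conj : a * (a * b) * a⁻¹ = (a * b)⁻¹ := by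
  have ha : a⁻¹ = a := inv_eq_of_mul_eq_one_left h.aa
  have hb : b⁻¹ = b := inv_eq_of_mul_eq_one_left h.bb
  rw [mul_inv_rev, ha, hb, ← mul_assoc, h.aa, one_mul]

/-- the homomorphism on the first factor -/
def Rel.dl : D →* G := dihedralHom (a * b) a h.ab h.aa h.inv_conj

theorem Rel.dl_a : h.dl (.sr 0) = a := by
  rw [Rel.dl, dihedralHom_sr, zpw_zero, mul_one]

theorem Rel.dl_b : h.dl (.sr 1) = b := by
  rw [Rel.dl, dihedralHom_sr, zpw_one, ← mul_assoc, h.aa, one_mul]

omit h in
theorem D_gen (p : D) : p ∈ closure ({.sr 0, .sr 1} : Set D) := by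
  have h0 : (.sr 0 : D) ∈ closure ({.sr 0, .sr 1} : Set D) := subset_closure (by simp)
  have h1 : (.sr 1 : D) ∈ closure ({.sr 0, .sr 1} : Set D) := subset_closure (by simp)
  have hr : (.r 1 : D) ∈ closure ({.sr 0, .sr 1} : Set D) := by
    have := mul_mem h0 h1
    exact this
  have key : ∀ p : D, ∃ i : Fin 2, ∃ j : Fin 4, p = (.sr 0) ^ (i : ℕ) * (.r 1) ^ (j : ℕ) := by decide
  obtain ⟨i, j, hp⟩ := key p
  rw [hp]
  exact mul_mem (pow_mem h0 _) (pow_mem hr _)

theorem Rel.comm (p q : D) : h.dl p * (t * h.dl q * t) = t * h.dl q * t * h.dl p := by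
  have ht : t⁻¹ = t := inv_eq_of_mul_eq_one_left h.tt
  -- `t · t` as a homomorphism
  let f : D →* G := (MulAut.conj t).toMonoidHom.comp h.dl
  have hf : ∀ q, f q = t * h.dl q * t := by
    intro q
    change t * h.dl q * t⁻¹ = _
    rw [ht]
  have h1 : ∀ p ∈ ({.sr 0, .sr 1} : Set D), ∀ q ∈ ({.sr 0, .sr 1} : Set D), Commute (h.dl p) (f q) := by
    intro p hp q hq
    rw [hf]
    simp only [Set.mem_insert_iff, Set.mem_singleton_iff] at hp hq
    rcases hp with rfl | rfl <;> rcases hq with rfl | rfl
    · rw [h.dl_a]; exact h.ac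
    · rw [h.dl_a, h.dl_b]; exact h.ad
    · rw [h.dl_a, h.dl_b]; exact h.bc
    · rw [h.dl_b]; exact h.bd
  have h2 : ∀ p ∈ ({.sr 0, .sr 1} : Set D), ∀ q : D, Commute (h.dl p) (f q) := by
    intro p hp q
    have hq := D_gen q
    induction hq using closure_induction with
    | mem x hx => exact h1 p hp x hx
    | one => rw [map_one]; exact Commute.one_right _
    | mul x y _ _ ihx ihy => rw [map_mul]; exact ihx.mul_right ihy
    | inv x _ ihx => rw [map_inv]; exact ihx.inv_right
  have h3 : Commute (h.dl p) (f q) := by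
    have hp := D_gen p
    induction hp using closure_induction with
    | mem x hx => exact h2 x hx q
    | one => rw [map_one]; exact Commute.one_left _
    | mul x y _ _ ihx ihy => rw [map_mul]; exact ihx.mul_left ihy
    | inv x _ ihx => rw [map_inv]; exact ihx.inv_left
  rw [← hf]
  exact h3

/-- the homomorphism from `W` -/
def Rel.lift : W →* G := MonoidHom.mk'
  (fun w => h.dl w.p * (t * h.dl w.q * t) * (bif w.s then t else 1)) (by
    have ht : ∀ x : G, t * (t * x) = x := fun x => by rw [← mul_assoc, h.tt, one_mul]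
    rintro ⟨p, q, s⟩ ⟨p', q', s'⟩
    cases s
    · -- `s = false`
      simp only [mul_def, cond_false, Bool.false_xor, mul_one, map_mul]
      have e : h.dl p * (t * h.dl q * t) * (h.dl p' * (t * h.dl q' * t) * (bif s' then t else 1)) =
          h.dl p * ((t * h.dl q * t) * h.dl p') * (t * h.dl q' * t) * (bif s' then t else 1) := by group
      rw [e, ← h.comm]
      have e2 : h.dl p * (h.dl p' * (t * h.dl q * t)) * (t * h.dl q' * t) * (bif s' then t else 1) =
          h.dl p * h.dl p' * (t * h.dl q * (t * (t * (h.dl q' * t)))) * (bif s' then t else 1) := by group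
      rw [e2, ht]
      group
    · simp only [mul_def, cond_true, Bool.true_xor, map_mul]
      have e : h.dl p * (t * h.dl q * t) * t * (h.dl p' * (t * h.dl q' * t) * (bif s' then t else 1)) =
          h.dl p * (t * h.dl q * (t * (t * (h.dl p' * (t * h.dl q' * t))))) * (bif s' then t else 1) := by group
      rw [e, ht, h.comm]
      have e2 : h.dl p * (t * h.dl q * (t * h.dl q' * t * h.dl p')) * (bif s' then t else 1) =
          h.dl p * (t * (h.dl q * (t * h.dl q' * t)) * h.dl p') * (bif s' then t else 1) := by group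
      rw [e2, h.comm]
      have e3 : h.dl p * (t * (t * h.dl q' * t * h.dl q) * h.dl p') * (bif s' then t else 1) =
          h.dl p * (t * (t * (h.dl q' * t * h.dl q * h.dl p'))) * (bif s' then t else 1) := by group
      rw [e3, ht]
      cases s'
      · simp only [cond_false, Bool.not_false, cond_true, mul_one]
        have e4 : h.dl p * h.dl q' * (t * (h.dl q * h.dl p') * t) * t =
            h.dl p * h.dl q' * (t * (h.dl q * h.dl p')) * (t * t) := by group
        rw [e4, h.tt]
        group
      · simp only [cond_true, Bool.not_true, cond_false, mul_one]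
        group)

theorem Rel.lift_apply (w : W) :
    h.lift w = h.dl w.p * (t * h.dl w.q * t) * (bif w.s then t else 1) := rfl

theorem Rel.lift_a : h.lift wa = a := by
  rw [h.lift_apply]
  change h.dl (.sr 0) * (t * h.dl 1 * t) * 1 = a
  rw [map_one, mul_one, mul_one, h.tt, mul_one, h.dl_a]

theorem Rel.lift_b : h.lift wb = b := by
  rw [h.lift_apply]
  change h.dl (.sr 1) * (t * h.dl 1 * t) * 1 = b
  rw [map_one, mul_one, mul_one, h.tt, mul_one, h.dl_b]

theorem Rel.lift_t : h.lift wt = t := by
  rw [h.lift_apply]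
  change h.dl 1 * (t * h.dl 1 * t) * t = t
  rw [map_one, mul_one, h.tt, mul_one, one_mul]

/-- A group of order 128 generated by `a, b, t` satisfying the relations is isomorphic to `W`. -/
theorem Rel.bijective (hG : Nat.card G = 128) (hgen : closure ({a, b, t} : Set G) = ⊤) :
    Function.Bijective h.lift := by
  have hfin : Finite G := Nat.finite_of_card_ne_zero (by omega)
  have hs : Function.Surjective h.lift := by
    rw [← MonoidHom.range_eq_top, eq_top_iff, ← hgen, closure_le]
    intro x hx
    simp only [Set.mem_insert_iff, Set.mem_singleton_iff] at hx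
    rcases hx with rfl | rfl | rfl
    · exact ⟨wa, h.lift_a⟩
    · exact ⟨wb, h.lift_b⟩
    · exact ⟨wt, h.lift_t⟩
  rw [Nat.bijective_iff_surjective_and_card]
  exact ⟨hs, by rw [card_W, hG]; norm_num⟩

end lift

end Cfsg.Agent.H584.WrModel
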