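import Mathlib
import Cfsg.Agent.H584.WrModel

/-!
# Subgroups and automorphisms of the model `W` of `D₈ ≀ C₂`

`A0`, `B0`: the two normal elementary abelian subgroups of order 16; `J0 = A0 B0` of order 64; `Z0 = A0 ∩ B0`.
-/

set_option autoImplicit false

namespace Cfsg.Agent.H584.WrModel

open Subgroup W

def InA (w : W) : Prop := w * wa = wa * w ∧ w * wc = wc * w
def InB (w : W) : Prop := w * wb = wb * w ∧ w * wd = wd * w
def InZ (w : W) : Prop := InA w ∧ InB w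
def InJ (w : W) : Prop := w * wz1 = wz1 * w

instance instDecInA : DecidablePred InA := fun w => inferInstanceAs (Decidable (_ ∧ _))
instance instDecInB : DecidablePred InB := fun w => inferInstanceAs (Decidable (_ ∧ _))
instance instDecInZ : DecidablePred InZ := fun w => inferInstanceAs (Decidable (_ ∧ _))
instance instDecInJ : DecidablePred InJ := fun w => inferInstanceAs (Decidable (_ = _))

def A0 : Subgroup W := centralizer {wa, wc}
def B0 : Subgroup W := centralizer {wb, wd}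
def Z0 : Subgroup W := A0 ⊓ B0
def J0 : Subgroup W := centralizer {wz1}

theorem mem_A0 {w : W} : w ∈ A0 ↔ InA w := by
  rw [A0, mem_centralizer_iff, InA]
  constructor
  · intro h
    exact ⟨(h wa (by simp)).symm, (h wc (by simp)).symm⟩
  · rintro ⟨h1, h2⟩ y hy
    simp only [Set.mem_insert_iff, Set.mem_singleton_iff] at hy
    rcases hy with rfl | rfl
    · exact h1.symm
    · exact h2.symm

theorem mem_B0 {w : W} : w ∈ B0 ↔ InB w := by
  rw [B0, mem_centralizer_iff, InB]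
  constructor
  · intro h
    exact ⟨(h wb (by simp)).symm, (h wd (by simp)).symm⟩
  · rintro ⟨h1, h2⟩ y hy
    simp only [Set.mem_insert_iff, Set.mem_singleton_iff] at hy
    rcases hy with rfl | rfl
    · exact h1.symm
    · exact h2.symm

theorem mem_Z0 {w : W} : w ∈ Z0 ↔ InZ w := by
  rw [Z0, mem_inf, mem_A0, mem_B0, InZ]

theorem mem_J0 {w : W} : w ∈ J0 ↔ InJ w := by
  rw [J0, mem_centralizer_iff, InJ]
  constructor
  · intro h
    exact (h wz1 (by simp)).symm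
  · intro h1 y hy
    rw [Set.mem_singleton_iff] at hy
    rw [hy]
    exact h1.symm

/-- explicit lists -/
def listA : List W := [1, .r 2, .sr 0, .sr 2].flatMap fun p => [1, .r 2, .sr 0, .sr 2].map fun q => ⟨p, q, false⟩
def listB : List W := [1, .r 2, .sr 1, .sr 3].flatMap fun p => [1, .r 2, .sr 1, .sr 3].map fun q => ⟨p, q, false⟩
def listZ : List W := [1, .r 2].flatMap fun p => [1, .r 2].map fun q => ⟨p, q, false⟩

theorem inA_iff : ∀ w : W, InA w ↔ w ∈ listA := by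
  rintro ⟨p, q, s⟩
  revert p q s
  decide +kernel

theorem inB_iff : ∀ w : W, InB w ↔ w ∈ listB := by
  rintro ⟨p, q, s⟩
  revert p q s
  decide +kernel

theorem inZ_iff : ∀ w : W, InZ w ↔ w ∈ listZ := by
  rintro ⟨p, q, s⟩
  revert p q s
  decide +kernel

theorem inJ_iff : ∀ w : W, InJ w ↔ w.s = false := by
  rintro ⟨p, q, s⟩
  revert p q s
  decide +kernel

theorem card_A0 : Nat.card A0 = 16 := by
  have h1 : Nat.card A0 = Nat.card {w : W // InA w} := Nat.card_congr (Equiv.subtypeEquivRight fun w => mem_A0)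
  rw [h1, Nat.card_eq_fintype_card, Fintype.card_subtype]
  decide +kernel

theorem card_B0 : Nat.card B0 = 16 := by
  have h1 : Nat.card B0 = Nat.card {w : W // InB w} := Nat.card_congr (Equiv.subtypeEquivRight fun w => mem_B0)
  rw [h1, Nat.card_eq_fintype_card, Fintype.card_subtype]
  decide +kernel

theorem card_Z0 : Nat.card Z0 = 4 := by
  have h1 : Nat.card Z0 = Nat.card {w : W // InZ w} := Nat.card_congr (Equiv.subtypeEquivRight fun w => mem_Z0)
  rw [h1, Nat.card_eq_fintype_card, Fintype.card_subtype]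
  decide +kernel

theorem card_J0 : Nat.card J0 = 64 := by
  have h1 : Nat.card J0 = Nat.card {w : W // InJ w} := Nat.card_congr (Equiv.subtypeEquivRight fun w => mem_J0)
  rw [h1, Nat.card_eq_fintype_card, Fintype.card_subtype]
  decide +kernel

theorem A0_comm {v w : W} (hv : InA v) (hw : InA w) : v * w = w * v := by
  rw [inA_iff] at hv hw
  revert v w
  have h : ∀ v ∈ listA, ∀ w ∈ listA, v * w = w * v := by decide +kernel
  intro v w hv hw
  exact h v hv w hw

theorem A0_sq {v : W} (hv : InA v) : v * v = 1 := by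
  rw [inA_iff] at hv
  revert v
  have h : ∀ v ∈ listA, v * v = 1 := by decide +kernel
  intro v hv
  exact h v hv

theorem A0_conj (g : W) {v : W} (hv : InA v) : InA (g * v * g⁻¹) := by
  rw [inA_iff] at hv
  have h : ∀ v ∈ listA, ∀ g : W, InA (g * v * g⁻¹) := by decide +kernel
  exact h v hv g

theorem B0_comm {v w : W} (hv : InB v) (hw : InB w) : v * w = w * v := by
  rw [inB_iff] at hv hw
  have h : ∀ v ∈ listB, ∀ w ∈ listB, v * w = w * v := by decide +kernel
  exact h v hv w hw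

theorem B0_sq {v : W} (hv : InB v) : v * v = 1 := by
  rw [inB_iff] at hv
  have h : ∀ v ∈ listB, v * v = 1 := by decide +kernel
  exact h v hv

theorem B0_conj (g : W) {v : W} (hv : InB v) : InB (g * v * g⁻¹) := by
  rw [inB_iff] at hv
  have h : ∀ v ∈ listB, ∀ g : W, InB (g * v * g⁻¹) := by decide +kernel
  exact h v hv g

/-- an involution commuting with its conjugates is in `A0` or `B0` -/
theorem inA_or_inB : ∀ v : W, v * v = 1 → v * (wa * wb * v * (wa * wb)⁻¹) = (wa * wb * v * (wa * wb)⁻¹) * v →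
    v * (wt * v * wt⁻¹) = (wt * v * wt⁻¹) * v → InA v ∨ InB v := by
  rintro ⟨p, q, s⟩
  revert p q s
  decide +kernel

/-- a normal elementary abelian subgroup of order 16 is `A0` or `B0` -/
theorem eq_A0_or_B0 {V : Subgroup W} (hn : ∀ g : W, ∀ v ∈ V, g * v * g⁻¹ ∈ V) (hc : ∀ v ∈ V, ∀ w ∈ V, v * w = w * v)
    (hs : ∀ v ∈ V, v * v = 1) (hcard : Nat.card V = 16) : V = A0 ∨ V = B0 := by
  have h1 : ∀ v ∈ V, v ∈ A0 ∨ v ∈ B0 := by
    intro v hv
    rw [mem_A0, mem_B0]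
    exact inA_or_inB v (hs v hv) (hc v hv _ (hn _ v hv)) (hc v hv _ (hn _ v hv))
  have h2 : V ≤ A0 ∨ V ≤ B0 := by
    by_contra hcon
    push Not at hcon
    obtain ⟨h3, h4⟩ := hcon
    obtain ⟨x, hx, hxA⟩ := SetLike.not_le_iff_exists.1 h3
    obtain ⟨y, hy, hyB⟩ := SetLike.not_le_iff_exists.1 h4
    have hxB := (h1 x hx).resolve_left hxA
    have hyA := (h1 y hy).resolve_right hyB
    rcases h1 (x * y) (mul_mem hx hy) with h5 | h5
    · exact hxA ((Subgroup.mul_mem_cancel_right A0 hyA).1 h5)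
    · exact hyB ((Subgroup.mul_mem_cancel_left B0 hxB).1 h5)
  rcases h2 with h2 | h2
  · left
    exact Subgroup.eq_of_le_of_card_ge h2 (by rw [card_A0, hcard])
  · right
    exact Subgroup.eq_of_le_of_card_ge h2 (by rw [card_B0, hcard])

theorem A0_ne_B0 : A0 ≠ B0 := by
  intro h
  have h1 : wa ∈ A0 := by rw [mem_A0]; decide
  rw [h, mem_B0] at h1
  revert h1
  decide +kernel

section auto

variable {φ : W →* W} (hφ : Function.Injective φ)
include hφ

theorem map_A0 : A0.map φ = A0 ∨ A0.map φ = B0 := by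
  have hs : Function.Surjective φ := Finite.surjective_of_injective hφ
  apply eq_A0_or_B0
  · rintro g _ ⟨v, hv, rfl⟩
    obtain ⟨g, rfl⟩ := hs g
    rw [← map_inv, ← map_mul, ← map_mul]
    exact ⟨_, mem_A0.2 (A0_conj g (mem_A0.1 hv)), rfl⟩
  · rintro _ ⟨v, hv, rfl⟩ _ ⟨w, hw, rfl⟩
    rw [← map_mul, ← map_mul, A0_comm (mem_A0.1 hv) (mem_A0.1 hw)]
  · rintro _ ⟨v, hv, rfl⟩
    rw [← map_mul, A0_sq (mem_A0.1 hv), map_one]
  · rw [card_map_of_injective hφ, card_A0]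

theorem map_B0 : B0.map φ = A0 ∨ B0.map φ = B0 := by
  have hs : Function.Surjective φ := Finite.surjective_of_injective hφ
  apply eq_A0_or_B0
  · rintro g _ ⟨v, hv, rfl⟩
    obtain ⟨g, rfl⟩ := hs g
    rw [← map_inv, ← map_mul, ← map_mul]
    exact ⟨_, mem_B0.2 (B0_conj g (mem_B0.1 hv)), rfl⟩
  · rintro _ ⟨v, hv, rfl⟩ _ ⟨w, hw, rfl⟩
    rw [← map_mul, ← map_mul, B0_comm (mem_B0.1 hv) (mem_B0.1 hw)]
  · rintro _ ⟨v, hv, rfl⟩
    rw [← map_mul, B0_sq (mem_B0.1 hv), map_one]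
  · rw [card_map_of_injective hφ, card_B0]

theorem map_AB : (A0.map φ = A0 ∧ B0.map φ = B0) ∨ (A0.map φ = B0 ∧ B0.map φ = A0) := by
  have hne : A0.map φ ≠ B0.map φ := fun h => A0_ne_B0 (Subgroup.map_injective hφ h)
  rcases map_A0 hφ with h1 | h1 <;> rcases map_B0 hφ with h2 | h2
  · exact absurd (h1.trans h2.symm) hne
  · exact Or.inl ⟨h1, h2⟩
  · exact Or.inr ⟨h1, h2⟩
  · exact absurd (h1.trans h2.symm) hne

theorem map_wz : φ wz = wz := by
  have hs : Function.Surjective φ := Finite.surjective_of_injective hφ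
  have hz : ∀ x : W, wz * x = x * wz := by decide +kernel
  rcases center_le (φ wz) (by
    intro y
    obtain ⟨y, rfl⟩ := hs y
    rw [← map_mul, ← map_mul, hz]) with h | h
  · exfalso
    rw [← map_one φ] at h
    have := hφ h
    revert this
    decide +kernel
  · exact h

theorem map_wz1 : (φ wz1 = wz1 ∧ φ wz2 = wz2) ∨ (φ wz1 = wz2 ∧ φ wz2 = wz1) := by
  have hZ : φ wz1 ∈ Z0 ∧ φ wz2 ∈ Z0 := by
    have h1 : wz1 ∈ A0 ∧ wz1 ∈ B0 ∧ wz2 ∈ A0 ∧ wz2 ∈ B0 := by
      simp only [mem_A0, mem_B0]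
      decide
    obtain ⟨ha, hb, hc, hd⟩ := h1
    rcases map_AB hφ with ⟨h2, h3⟩ | ⟨h2, h3⟩
    · have e1 := mem_map_of_mem φ ha
      have e2 := mem_map_of_mem φ hb
      have e3 := mem_map_of_mem φ hc
      have e4 := mem_map_of_mem φ hd
      rw [h2] at e1 e3
      rw [h3] at e2 e4
      exact ⟨⟨e1, e2⟩, ⟨e3, e4⟩⟩
    · have e1 := mem_map_of_mem φ ha
      have e2 := mem_map_of_mem φ hb
      have e3 := mem_map_of_mem φ hc
      have e4 := mem_map_of_mem φ hd
      rw [h2] at e1 e3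
      rw [h3] at e2 e4
      exact ⟨⟨e2, e1⟩, ⟨e4, e3⟩⟩
  have hz := map_wz hφ
  have hz12 : wz1 * wz2 = wz := by decide +kernel
  rw [← hz12, map_mul] at hz
  have n1 : φ wz1 ≠ 1 := by
    intro h
    rw [← map_one φ] at h
    have := hφ h
    revert this
    decide +kernel
  have n2 : φ wz2 ≠ 1 := by
    intro h
    rw [← map_one φ] at h
    have := hφ h
    revert this
    decide +kernel
  obtain ⟨h1, h2⟩ := hZ
  rw [mem_Z0, inZ_iff] at h1 h2
  generalize φ wz1 = x at *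
  generalize φ wz2 = y at *
  have key : ∀ x ∈ listZ, ∀ y ∈ listZ, x ≠ 1 → y ≠ 1 → x * y = wz1 * wz2 →
      (x = wz1 ∧ y = wz2) ∨ (x = wz2 ∧ y = wz1) := by decide +kernel
  exact key x h1 y h2 n1 n2 hz

end auto

/-- stage facts for automorphisms fixing `wz1` and `wz2` -/
theorem stage_one : ∀ γ ∈ listA, ∀ δ ∈ listB, (γ * δ) * (γ * δ) = wz2 →
    (γ.q = .sr 0 ∨ γ.q = .sr 2) ∧ (δ.q = .sr 1 ∨ δ.q = .sr 3) := by decide +kernel

theorem stage_two : ∀ α ∈ listA, ∀ δ ∈ listB, (δ.q = .sr 1 ∨ δ.q = .sr 3) → α * δ = δ * α →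
    (α.q = 1 ∨ α.q = .r 2) := by decide +kernel

theorem stage_two' : ∀ β ∈ listB, ∀ γ ∈ listA, (γ.q = .sr 0 ∨ γ.q = .sr 2) → β * γ = γ * β →
    (β.q = 1 ∨ β.q = .r 2) := by decide +kernel

theorem stage_three : ∀ α ∈ listA, ∀ β ∈ listB, (α * β) * (α * β) = wz1 →
    (α.p = .sr 0 ∨ α.p = .sr 2) ∧ (β.p = .sr 1 ∨ β.p = .sr 3) := by decide +kernel

theorem stage_four : ∀ α ∈ listA, ∀ δ ∈ listB, (α.p = .sr 0 ∨ α.p = .sr 2) → α * δ = δ * α →
    (δ.p = 1 ∨ δ.p = .r 2) := by decide +kernel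

theorem stage_four' : ∀ β ∈ listB, ∀ γ ∈ listA, (β.p = .sr 1 ∨ β.p = .sr 3) → β * γ = γ * β →
    (γ.p = 1 ∨ γ.p = .r 2) := by decide +kernel

theorem stage_a : ∀ α ∈ listA, (α.p = .sr 0 ∨ α.p = .sr 2) → (α.q = 1 ∨ α.q = .r 2) → α * wa ∈ listZ := by decide +kernel
theorem stage_b : ∀ β ∈ listB, (β.p = .sr 1 ∨ β.p = .sr 3) → (β.q = 1 ∨ β.q = .r 2) → β * wb ∈ listZ := by decide +kernel
theorem stage_c : ∀ γ ∈ listA, (γ.p = 1 ∨ γ.p = .r 2) → (γ.q = .sr 0 ∨ γ.q = .sr 2) → γ * wc ∈ listZ := by decide +kernel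
theorem stage_d : ∀ δ ∈ listB, (δ.p = 1 ∨ δ.p = .r 2) → (δ.q = .sr 1 ∨ δ.q = .sr 3) → δ * wd ∈ listZ := by decide +kernel

/-- `α, γ ∈ A0`, `β, δ ∈ B0` with the relations of `wa, wb, wc, wd` and the same central involutions are
congruent to `wa, …, wd` modulo `Z0`. -/
theorem quad {α β γ δ : W} (hα : InA α) (hβ : InB β) (hγ : InA γ) (hδ : InB δ)
    (h1 : (α * β) * (α * β) = wz1) (h2 : (γ * δ) * (γ * δ) = wz2) (h3 : α * δ = δ * α) (h4 : β * γ = γ * β) :
    α * wa ∈ Z0 ∧ β * wb ∈ Z0 ∧ γ * wc ∈ Z0 ∧ δ * wd ∈ Z0 := by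
  rw [inA_iff] at hα hγ
  rw [inB_iff] at hβ hδ
  simp only [mem_Z0, inZ_iff]
  obtain ⟨s1, s2⟩ := stage_one γ hγ δ hδ h2
  obtain ⟨s3, s4⟩ := stage_three α hα β hβ h1
  have s5 := stage_two α hα δ hδ s2 h3
  have s6 := stage_two' β hβ γ hγ s1 h4
  have s7 := stage_four α hα δ hδ s3 h3
  have s8 := stage_four' β hβ γ hγ s4 h4
  exact ⟨stage_a α hα s3 s5, stage_b β hβ s4 s6, stage_c γ hγ s8 s1, stage_d δ hδ s7 s2⟩

end Cfsg.Agent.H584.WrModel
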