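import Mathlib
import Cfsg.Agent.H584.WrGrow

/-!
# The growth of `D₈ ≀ C₂`: the normal form of `u`, and `N_S(W) / Z(S) ≅ D₈ ≀ C₂`
-/

set_option autoImplicit false

namespace Cfsg.Agent.H584.WrRank

open Subgroup Cfsg Cfsg.Agent.TwoFusion.SectionalRank Cfsg.Agent.H584.WrModel Cfsg.Agent.H584.WrModel.W

/-- the normal form -/
structure Nf {S : Type*} [Group S] (ι : W →* S) (u : S) : Prop where
  nm : u ∉ ι.range
  a : u * ι wa * u⁻¹ = ι wb
  b : u * ι wb * u⁻¹ = ι wa
  c : u * ι wc * u⁻¹ = ι wd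
  d : u * ι wd * u⁻¹ = ι wc
  t : u * ι wt * u⁻¹ = ι wt ∨ u * ι wt * u⁻¹ = ι (wt * wz)
  sq : u * u = 1 ∨ u * u = ι wz

theorem rel_tau : Rel (wa * wz2) wb wt where
  aa := by decide +kernel
  bb := by decide +kernel
  tt := by decide +kernel
  ab := by decide +kernel
  ac := by decide +kernel
  ad := by decide +kernel
  bc := by decide +kernel
  bd := by decide +kernel

/-- the automorphism `wa ↦ wa * wz2`, `wb ↦ wb`, `wt ↦ wt` of `W` -/
def tau : W →* W := rel_tau.lift

theorem tau_injective : Function.Injective tau := by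
  apply W.injective_of_ne
  rw [wz_eq, tau]
  simp only [map_mul, Rel.lift_a, Rel.lift_b, Rel.lift_t]
  decide +kernel

theorem tau_a : tau wa = wa * wz2 := rel_tau.lift_a
theorem tau_b : tau wb = wb := rel_tau.lift_b
theorem tau_t : tau wt = wt := rel_tau.lift_t
theorem tau_c : tau wc = wc * wz1 := by
  rw [show wc = wt * wa * wt by decide +kernel, map_mul, map_mul, tau_a, tau_t]
  decide +kernel
theorem tau_d : tau wd = wd := by
  rw [show wd = wt * wb * wt by decide +kernel, map_mul, map_mul, tau_b, tau_t]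

section

variable {S : Type*} [Group S] [Finite S] (h2 : IsPGroup 2 S) (hr : SectionalPRankLE 2 4 S)
  (ι : W →* S) (hι : Function.Injective ι)

include h2 hr hι

theorem exists_nf {x : S} (hx : x ∉ ι.range) (hxn : ∀ p ∈ ι.range, x * p * x⁻¹ ∈ ι.range)
    (hxx : x * x ∈ ι.range) : ∃ (κ : W →* S) (u : S), Function.Injective κ ∧ κ.range = ι.range ∧ Nf κ u := by
  obtain ⟨u, φ, j, h⟩ := exists_dat h2 hr ι hι hx hxn hxx
  obtain ⟨u, φ, j, h, hj⟩ := h.stageB ι hι
  obtain ⟨u, φ, j, h, hj, hζ, hη⟩ := h.stageC ι hι hj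
  obtain ⟨e1, e3⟩ := h.eqs ι hι hj
  have hw1 : φ wt * φ wt = 1 := by rw [← map_mul, show wt * wt = 1 by decide +kernel, map_one]
  have hw2 : φ wt * wz1 = wz2 * φ wt := by
    have h3 : φ (wt * wz1) = φ (wz2 * wt) := by rw [show wt * wz1 = wz2 * wt by decide +kernel]
    rw [map_mul, map_mul, h.sw.z1, h.sw.z2] at h3
    exact h3
  have hw3 : φ wc = φ wt * φ wa * φ wt := by
    rw [← map_mul, ← map_mul, show wt * wa * wt = wc by decide +kernel]
  have hw4 : φ wd = φ wt * φ wb * φ wt := by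
    rw [← map_mul, ← map_mul, show wt * wb * wt = wd by decide +kernel]
  have ea : φ wa = (φ wa * wb) * wb := by rw [mul_assoc, show wb * wb = 1 by decide +kernel, mul_one]
  have eb : φ wb = (φ wa * wb) * wa := by rw [e1, mul_assoc, show wa * wa = 1 by decide +kernel, mul_one]
  have ec : φ wc = (φ wc * wd) * wd := by rw [mul_assoc, show wd * wd = 1 by decide +kernel, mul_one]
  have ed : φ wd = (φ wc * wd) * wc := by rw [e3, mul_assoc, show wc * wc = 1 by decide +kernel, mul_one]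
  have key : ∀ ζ ∈ [(1 : W), wz2], ∀ η ∈ [(1 : W), wz1], ∀ w : W,
      (w * w = 1 ∧ w * wz1 = wz2 * w ∧ η * wd = w * (ζ * wb) * w ∧ η * wc = w * (ζ * wa) * w) →
      (((ζ = 1 ∧ η = 1) ∨ (ζ = wz2 ∧ η = wz1)) ∧ (w = wt ∨ w = wt * wz)) := by decide +kernel
  have hm1 : φ wa * wb ∈ [(1 : W), wz2] := by simpa using hζ
  have hm2 : φ wc * wd ∈ [(1 : W), wz1] := by simpa using hη
  obtain ⟨k1, k2⟩ := key (φ wa * wb) hm1 (φ wc * wd) hm2 (φ wt) ⟨hw1, hw2,
    by rw [← ec, ← ea]; exact hw3, by rw [← ed, ← eb]; exact hw4⟩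
  have hwz : φ wz = wz := by
    rw [show wz = wz1 * wz2 by decide +kernel, map_mul, h.sw.z1, h.sw.z2]
  have hjt : j * wt = wt * j := by
    have h3 : φ (φ wt) = wt := by
      rcases k2 with k2 | k2
      · rw [k2, k2]
      · rw [k2, map_mul, k2, hwz]
        decide +kernel
    rw [h.phi_phi ι hι] at h3
    exact mul_inv_eq_iff_eq_mul.1 h3
  have hj' : j = 1 ∨ j = wz := by
    have key2 : ∀ j ∈ listZ, j * wt = wt * j → j = 1 ∨ j = wz := by decide +kernel
    rw [mem_Z0, inZ_iff] at hj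
    exact key2 j hj hjt
  have hsq : u * u = 1 ∨ u * u = ι wz := by
    rw [h.sq]
    rcases hj' with h3 | h3
    · left; rw [h3, map_one]
    · right; rw [h3]
  rcases k1 with ⟨k3, k4⟩ | ⟨k3, k4⟩
  · rw [k3, one_mul] at ea eb
    rw [k4, one_mul] at ec ed
    refine ⟨ι, u, hι, rfl, ⟨h.nm, ?_, ?_, ?_, ?_, ?_, hsq⟩⟩
    · rw [h.hφ, ea]
    · rw [h.hφ, eb]
    · rw [h.hφ, ec]
    · rw [h.hφ, ed]
    · rw [h.hφ]
      rcases k2 with k2 | k2
      · left; rw [k2]
      · right; rw [k2]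
  · rw [k3] at ea eb
    rw [k4] at ec ed
    have hts : Function.Surjective tau := Finite.surjective_of_injective tau_injective
    have hrange : (ι.comp tau).range = ι.range := by
      apply le_antisymm
      · rintro _ ⟨w, rfl⟩
        exact ⟨tau w, rfl⟩
      · rintro _ ⟨w, rfl⟩
        obtain ⟨v, rfl⟩ := hts w
        exact ⟨v, rfl⟩
    refine ⟨ι.comp tau, u, hι.comp tau_injective, hrange, ⟨?_, ?_, ?_, ?_, ?_, ?_, ?_⟩⟩
    · rw [hrange]; exact h.nm
    · change u * ι (tau wa) * u⁻¹ = ι (tau wb)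
      rw [h.hφ, tau_a, tau_b, map_mul, ea, h.sw.z2, show wz2 * wb * wz2 = wb by decide +kernel]
    · change u * ι (tau wb) * u⁻¹ = ι (tau wa)
      rw [h.hφ, tau_a, tau_b, eb, show wz2 * wa = wa * wz2 by decide +kernel]
    · change u * ι (tau wc) * u⁻¹ = ι (tau wd)
      rw [h.hφ, tau_c, tau_d, map_mul, ec, h.sw.z1, show wz1 * wd * wz1 = wd by decide +kernel]
    · change u * ι (tau wd) * u⁻¹ = ι (tau wc)
      rw [h.hφ, tau_c, tau_d, ed, show wz1 * wc = wc * wz1 by decide +kernel]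
    · change u * ι (tau wt) * u⁻¹ = ι (tau wt) ∨ u * ι (tau wt) * u⁻¹ = ι (tau (wt * wz))
      rw [h.hφ, map_mul, map_wz tau_injective, tau_t]
      rcases k2 with k2 | k2
      · left; rw [k2]
      · right; rw [k2]
    · change u * u = 1 ∨ u * u = ι (tau wz)
      rw [map_wz tau_injective]
      exact hsq

/-- index 2 in the normalizer -/
theorem relIndex_eq_two (hne : ι.range ≠ ⊤) :
    ι.range.relIndex (normalizer (ι.range : Set S)) = 2 := by
  have hxP := exists_normalizing h2 (P := ι.range) (M := ⊤) le_top (fun h => hne (eq_top_iff.2 h))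
  obtain ⟨x, -, hxP, hxn, hxn'⟩ := hxP
  have hxN : x ∈ normalizer (ι.range : Set S) := by
    rw [mem_normalizer_iff]
    intro h
    refine ⟨fun hh => hxn h hh, fun hh => ?_⟩
    have h3 := hxn' _ hh
    have h4 : x⁻¹ * (x * h * x⁻¹) * x = h := by group
    rwa [h4] at h3
  obtain ⟨φ, hφi, hφ⟩ := exists_phi ι hι x hxn
  obtain ⟨hφA, hφB⟩ := swaps h2 hr ι hι hxP hφi hφ
  rw [Subgroup.relIndex, index_eq_two_iff_exists_notMem_and]
  refine ⟨⟨x, hxN⟩, hxP, ?_⟩
  rintro ⟨y, hyN⟩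
  by_cases hy : y ∈ ι.range
  · right; exact hy
  · left
    rw [mem_subgroupOf]
    change y * x ∈ ι.range
    have hyn : ∀ p ∈ ι.range, y * p * y⁻¹ ∈ ι.range := fun p hp => (mem_normalizer_iff.1 hyN p).1 hp
    obtain ⟨ψ, hψi, hψ⟩ := exists_phi ι hι y hyn
    obtain ⟨hψA, hψB⟩ := swaps h2 hr ι hι hy hψi hψ
    by_contra hyx
    refine bad' h2 hr ι hι hyx (φ := ψ.comp φ) (hψi.comp hφi) ?_ ?_ ?_
    · intro w
      change _ = ι (ψ (φ w))
      rw [← hψ, ← hφ]
      group
    · rw [← Subgroup.map_map, hφA, hψB]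
    · rw [← Subgroup.map_map, hφB, hψA]

end

/-! ### the quotient -/

section quot

variable {X : Type*} [Group X]

/-- the data in the quotient `N_S(W) / Z(S)` -/
structure Quo (κ : W →* X) (u : X) : Prop where
  z : κ wz = 1
  a : u * κ wa * u⁻¹ = κ wb
  b : u * κ wb * u⁻¹ = κ wa
  c : u * κ wc * u⁻¹ = κ wd
  d : u * κ wd * u⁻¹ = κ wc
  t : u * κ wt * u⁻¹ = κ wt
  sq : u * u = 1

variable {κ : W →* X} {u : X} (h : Quo κ u)
include h

theorem Quo.uinv : u⁻¹ = u := inv_eq_of_mul_eq_one_left h.sq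

theorem Quo.ua : u * κ wa = κ wb * u := mul_inv_eq_iff_eq_mul.1 h.a
theorem Quo.ub : u * κ wb = κ wa * u := mul_inv_eq_iff_eq_mul.1 h.b
theorem Quo.uc : u * κ wc = κ wd * u := mul_inv_eq_iff_eq_mul.1 h.c
theorem Quo.ud : u * κ wd = κ wc * u := mul_inv_eq_iff_eq_mul.1 h.d
theorem Quo.ut : u * κ wt = κ wt * u := mul_inv_eq_iff_eq_mul.1 h.t

/-- `y = u c b` -/
theorem Quo.rel : Rel (κ wt) (κ wt * (u * κ (wc * wb))) (κ wa) := by
  have hua := h.ua
  have hub := h.ub
  have huc := h.uc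
  have hud := h.ud
  have hut := h.ut
  have huu := h.sq
  -- move `u` to the right
  have mv : ∀ v w : W, u * κ v = κ w * u → ∀ x : X, u * (κ v * x) = κ w * (u * x) := by
    intro v w hvw x
    rw [← mul_assoc, hvw, mul_assoc]
  have pa := mv _ _ hua
  have pb := mv _ _ hub
  have pc := mv _ _ huc
  have pd := mv _ _ hud
  have pt := mv _ _ hut
  have pu : ∀ x : X, u * (u * x) = x := fun x => by rw [← mul_assoc, huu, one_mul]
  have km : ∀ v w : W, κ v * κ w = κ (v * w) := fun v w => (map_mul κ v w).symm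
  have km' : ∀ (v w : W) (x : X), κ v * (κ w * x) = κ (v * w) * x := by
    intro v w x
    rw [map_mul, mul_assoc]
  have hz := h.z
  have ks : κ (wc * wb) = κ wc * κ wb := map_mul κ _ _
  have kone : ∀ w : W, w = 1 ∨ w = wz → κ w = 1 := by
    rintro w (rfl | rfl)
    · exact map_one κ
    · exact hz
  have keq : ∀ v w : W, v = w ∨ v = wz * w → κ v = κ w := by
    rintro v w (rfl | rfl)
    · rfl
    · rw [map_mul, hz, one_mul]
  have e4 : κ wt * (κ wt * (u * κ (wc * wb))) = u * κ (wc * wb) := by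
    rw [km', show wt * wt = 1 by decide +kernel, map_one, one_mul]
  refine ⟨?_, ?_, ?_, ?_, ?_, ?_, ?_, ?_⟩
  · rw [km]; exact kone _ (by decide +kernel)
  · simp only [ks, mul_assoc]
    simp only [pa, pb, pc, pd, pt, pu, hua, hub, huc, hud, hut, huu]
    simp only [km, km', mul_one]
    exact kone _ (by decide +kernel)
  · rw [km]; exact kone _ (by decide +kernel)
  · rw [e4, show (4 : ℕ) = 2 * 2 from rfl, pow_mul, pow_two, pow_two]
    simp only [ks, mul_assoc]
    simp only [pa, pb, pc, pd, pt, pu, hua, hub, huc, hud, hut, huu]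
    simp only [km, km', mul_one]
    exact kone _ (by decide +kernel)
  · simp only [km, ← mul_assoc]
    exact keq _ _ (by decide +kernel)
  · simp only [ks, mul_assoc]
    simp only [pa, pb, pc, pd, pt, pu, hua, hub, huc, hud, hut, huu]
    simp only [km, km', mul_one]
    simp only [← mul_assoc]
    congr 1
  · simp only [ks, mul_assoc]
    simp only [pa, pb, pc, pd, pt, pu, hua, hub, huc, hud, hut, huu]
    simp only [km, km', mul_one]
    simp only [← mul_assoc]
    congr 1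
  · simp only [ks, mul_assoc]
    simp only [pa, pb, pc, pd, pt, pu, hua, hub, huc, hud, hut, huu]
    simp only [km, km', mul_one]
    exact keq _ _ (by decide +kernel)

end quot

theorem W_gen (H : Subgroup W) (ha : wa ∈ H) (hb : wb ∈ H) (ht : wt ∈ H) (w : W) : w ∈ H := by
  have hc : wc ∈ H := by
    rw [show wc = wt * wa * wt by decide +kernel]
    exact mul_mem (mul_mem ht ha) ht
  have hd : wd ∈ H := by
    rw [show wd = wt * wb * wt by decide +kernel]
    exact mul_mem (mul_mem ht hb) ht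
  have hJ : J0 ≤ H := by
    refine J0_le.trans ((closure_le _).2 ?_)
    intro x hx
    simp only [Set.mem_insert_iff, Set.mem_singleton_iff] at hx
    rcases hx with rfl | rfl | rfl | rfl
    · exact ha
    · exact hb
    · exact hc
    · exact hd
  have key : ∀ w : W, InJ w ∨ InJ (w * wt) := by decide +kernel
  rcases key w with h | h
  · exact hJ (mem_J0.2 h)
  · exact (Subgroup.mul_mem_cancel_right H ht).1 (hJ (mem_J0.2 h))

section final

variable {S : Type*} [Group S] [Finite S] (h2 : IsPGroup 2 S) (hr : SectionalPRankLE 2 4 S)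
  (ι : W →* S) (hι : Function.Injective ι)

include h2 hr hι

theorem quotient_equiv (hne : ι.range ≠ ⊤)
    (hn : ((center S).subgroupOf (normalizer (ι.range : Set S))).Normal) :
    Nonempty (↥(normalizer (ι.range : Set S)) ⧸ (center S).subgroupOf (normalizer (ι.range : Set S)) ≃* W) := by
  set N := normalizer (ι.range : Set S) with hN
  have hidx := relIndex_eq_two h2 hr ι hι hne
  have hPN : ι.range ≤ N := le_normalizer
  have hxP := exists_normalizing h2 (P := ι.range) (M := ⊤) le_top (fun h => hne (eq_top_iff.2 h))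
  obtain ⟨x, -, hxP, hxn, hxn'⟩ := hxP
  have hxN : x ∈ N := by
    rw [hN, mem_normalizer_iff]
    intro h
    refine ⟨fun hh => hxn h hh, fun hh => ?_⟩
    have h3 := hxn' _ hh
    have h4 : x⁻¹ * (x * h * x⁻¹) * x = h := by group
    rwa [h4] at h3
  have hxx : x * x ∈ ι.range := by
    have h3 := mul_self_mem_of_index_two hidx (⟨x, hxN⟩ : N)
    exact h3
  obtain ⟨κ0, u, hκ0, hrange, hnf⟩ := exists_nf h2 hr ι hι hxP hxn hxx
  -- `u ∈ N`
  have huN : ∀ w : W, u * κ0 w * u⁻¹ ∈ κ0.range := by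
    intro w
    let H : Subgroup W := (κ0.range.comap (MulAut.conj u).toMonoidHom).comap κ0
    have hmem : ∀ v, v ∈ H ↔ u * κ0 v * u⁻¹ ∈ κ0.range := fun v => Iff.rfl
    refine (hmem w).1 (W_gen H ?_ ?_ ?_ w)
    · rw [hmem, hnf.a]; exact ⟨_, rfl⟩
    · rw [hmem, hnf.b]; exact ⟨_, rfl⟩
    · rw [hmem]
      rcases hnf.t with h | h
      · rw [h]; exact ⟨_, rfl⟩
      · rw [h]; exact ⟨_, rfl⟩
  obtain ⟨ψ, hψi, hψ⟩ := exists_phi κ0 hκ0 u (by rintro _ ⟨w, rfl⟩; exact huN w)
  have huN' : u ∈ N := by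
    have hs : Function.Surjective ψ := Finite.surjective_of_injective hψi
    rw [hN, mem_normalizer_iff, ← hrange]
    intro h
    constructor
    · rintro ⟨w, rfl⟩
      exact huN w
    · rintro ⟨w, hw⟩
      obtain ⟨v, rfl⟩ := hs w
      rw [← hψ] at hw
      refine ⟨v, ?_⟩
      exact mul_left_cancel (mul_right_cancel hw)
  set π := QuotientGroup.mk' ((center S).subgroupOf N) with hπ
  have hκN : ∀ w, κ0 w ∈ N := by
    intro w
    apply hPN
    rw [← hrange]
    exact ⟨w, rfl⟩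
  let κ : W →* (↥N ⧸ (center S).subgroupOf N) := π.comp (κ0.codRestrict N hκN)
  have hκ : ∀ w, κ w = π ⟨κ0 w, hκN w⟩ := fun w => rfl
  have hcen : center S = zpowers (κ0 wz) := center_eq h2 hr κ0 hκ0
  have hz : κ wz = 1 := by
    rw [hκ, hπ, QuotientGroup.mk'_apply, QuotientGroup.eq_one_iff, mem_subgroupOf, hcen]
    exact mem_zpowers _
  have hconj : ∀ v w : W, u * κ0 v * u⁻¹ = κ0 w → π ⟨u, huN'⟩ * κ v * (π ⟨u, huN'⟩)⁻¹ = κ w := by
    intro v w h
    rw [hκ, hκ, ← map_mul, ← map_inv, ← map_mul]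
    congr 1
    exact Subtype.ext h
  have hquo : Quo κ (π ⟨u, huN'⟩) := by
    refine ⟨hz, hconj _ _ hnf.a, hconj _ _ hnf.b, hconj _ _ hnf.c, hconj _ _ hnf.d, ?_, ?_⟩
    · rcases hnf.t with h | h
      · exact hconj _ _ h
      · rw [hconj _ _ h, map_mul, hz, mul_one]
    · rw [← map_mul, hπ, QuotientGroup.mk'_apply, QuotientGroup.eq_one_iff, mem_subgroupOf, hcen]
      change u * u ∈ _
      rcases hnf.sq with h | h
      · rw [h]; exact one_mem _
      · rw [h]; exact mem_zpowers _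
  have hrel := hquo.rel
  -- the order
  have hcard : Nat.card (↥N ⧸ (center S).subgroupOf N) = 128 := by
    have h3 := Subgroup.card_eq_card_quotient_mul_card_subgroup ((center S).subgroupOf N)
    have h4 : Nat.card ((center S).subgroupOf N) = 2 := by
      have h5 : center S ≤ N := by
        intro z hz
        exact center_le_normalizer _ hz
      rw [Nat.card_congr (subgroupOfEquivOfLe h5).toEquiv, hcen, card_zpowers_wz κ0 hκ0]
    have h6 : Nat.card N = 256 := by
      rw [card_eq_relIndex_mul N ι.range hPN, hidx, ← Nat.card_congr (MonoidHom.ofInjective hι).toEquiv, card_W]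
      norm_num
    rw [h4, h6] at h3
    omega
  -- generation
  set a' := κ wt with ha'
  set y' := π ⟨u, huN'⟩ * κ (wc * wb) with hy'
  have hgen : closure ({κ wt, κ wt * (π ⟨u, huN'⟩ * κ (wc * wb)), κ wa} : Set _) = ⊤ := by
    set K := closure ({κ wt, κ wt * (π ⟨u, huN'⟩ * κ (wc * wb)), κ wa} : Set (↥N ⧸ (center S).subgroupOf N)) with hK
    have k1 : κ wt ∈ K := subset_closure (by simp)
    have k2 : κ wt * (π ⟨u, huN'⟩ * κ (wc * wb)) ∈ K := subset_closure (by simp)
    have k3 : κ wa ∈ K := subset_closure (by simp)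
    have k4 : π ⟨u, huN'⟩ * κ (wc * wb) ∈ K := (Subgroup.mul_mem_cancel_left K k1).1 k2
    have k5 : κ (wa * wb * wa) ∈ K := by
      have h3 := mul_mem (mul_mem k4 k3) (inv_mem k4)
      have h4 : π ⟨u, huN'⟩ * κ (wc * wb) * κ wa * (π ⟨u, huN'⟩ * κ (wc * wb))⁻¹ = κ (wa * wb * wa) := by
        have e1 : π ⟨u, huN'⟩ * κ (wc * wb) * κ wa * (π ⟨u, huN'⟩ * κ (wc * wb))⁻¹ =
            π ⟨u, huN'⟩ * κ (wc * wb * wa * (wc * wb)⁻¹) * (π ⟨u, huN'⟩)⁻¹ := by
          rw [map_mul κ (wc * wb * wa), map_mul κ (wc * wb) wa, map_inv]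
          group
        rw [e1, show wc * wb * wa * (wc * wb)⁻¹ = wb * wa * wb by decide +kernel, map_mul, map_mul]
        have e2 : π ⟨u, huN'⟩ * (κ wb * κ wa * κ wb) * (π ⟨u, huN'⟩)⁻¹ =
            (π ⟨u, huN'⟩ * κ wb * (π ⟨u, huN'⟩)⁻¹) * (π ⟨u, huN'⟩ * κ wa * (π ⟨u, huN'⟩)⁻¹) *
            (π ⟨u, huN'⟩ * κ wb * (π ⟨u, huN'⟩)⁻¹) := by group
        rw [e2, hquo.a, hquo.b, map_mul, map_mul]
      rwa [h4] at h3
    have k6 : κ wb ∈ K := by
      have h3 := mul_mem (mul_mem k3 k5) k3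
      rwa [← map_mul, ← map_mul, show wa * (wa * wb * wa) * wa = wb by decide +kernel] at h3
    have k7 : ∀ w, κ w ∈ K := fun w => W_gen (K.comap κ) k3 k6 k1 w
    have k8 : π ⟨u, huN'⟩ ∈ K := (Subgroup.mul_mem_cancel_right K (k7 _)).1 k4
    rw [eq_top_iff]
    intro q _
    obtain ⟨⟨g, hg⟩, rfl⟩ := QuotientGroup.mk'_surjective _ q
    by_cases hgP : g ∈ κ0.range
    · obtain ⟨w, rfl⟩ := hgP
      exact k7 w
    · have h3 : g * u⁻¹ ∈ κ0.range := by
        have hidx' : (κ0.range.subgroupOf N).index = 2 := by rw [hrange]; exact hidx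
        have h4 := (Subgroup.mul_mem_iff_of_index_two hidx' (a := ⟨g, hg⟩) (b := (⟨u, huN'⟩ : N)⁻¹)).2 (by
          rw [inv_mem_iff, mem_subgroupOf, mem_subgroupOf]
          exact ⟨fun h => absurd h hgP, fun h => absurd h hnf.nm⟩)
        exact h4
      obtain ⟨w, hw⟩ := h3
      have h5 : π ⟨g, hg⟩ = κ w * π ⟨u, huN'⟩ := by
        rw [hκ, ← map_mul]
        congr 1
        apply Subtype.ext
        change g = κ0 w * u
        rw [hw]
        group
      rw [h5]
      exact mul_mem (k7 w) k8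
  exact ⟨(MulEquiv.ofBijective _ (hrel.bijective hcard hgen)).symm⟩

end final

end Cfsg.Agent.H584.WrRank
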