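import Mathlib
import Cfsg.Agent.H584.WrModel

/-!
# The Sylow 2-subgroups of `Perm (Fin 8)` are isomorphic to `W`
-/

set_option autoImplicit false

namespace Cfsg.Agent.H584.WrModel

open Subgroup W

/-- permutations -/
def pa : Equiv.Perm (Fin 8) := Equiv.swap 0 2
def pb : Equiv.Perm (Fin 8) := Equiv.swap 0 1 * Equiv.swap 2 3
def pt : Equiv.Perm (Fin 8) := Equiv.swap 0 4 * Equiv.swap 1 5 * Equiv.swap 2 6 * Equiv.swap 3 7

theorem rel_perm : Rel pa pb pt where
  aa := by decide
  bb := by decide
  tt := by decide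
  ab := by decide
  ac := by decide
  ad := by decide
  bc := by decide
  bd := by decide

theorem wz_eq : wz = wa * wb * (wa * wb) * (wt * (wa * wb * (wa * wb)) * wt) := by decide

theorem perm_injective : Function.Injective rel_perm.lift := by
  apply W.injective_of_ne
  rw [wz_eq]
  simp only [map_mul, Rel.lift_a, Rel.lift_b, Rel.lift_t]
  decide

theorem card_range : Nat.card rel_perm.lift.range = 128 := by
  rw [← Nat.card_congr (MonoidHom.ofInjective perm_injective).toEquiv, card_W]
  norm_num

/-- the Sylow 2-subgroup -/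
noncomputable def sylowPerm : Sylow 2 (Equiv.Perm (Fin 8)) :=
  IsPGroup.toSylow (P := rel_perm.lift.range) (IsPGroup.of_card (n := 7) (by rw [card_range]; norm_num)) (by
    have h1 := Subgroup.card_mul_index rel_perm.lift.range
    rw [card_range, Nat.card_eq_fintype_card, Fintype.card_perm, Fintype.card_fin] at h1
    have h2 : rel_perm.lift.range.index = 315 := by
      have h3 : Nat.factorial 8 = 128 * 315 := by decide
      rw [h3] at h1
      exact Nat.eq_of_mul_eq_mul_left (by norm_num) h1
    rw [h2]
    norm_num)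

theorem equiv_sylow (T : Sylow 2 (Equiv.Perm (Fin 8))) : Nonempty (W ≃* ↥(T : Subgroup (Equiv.Perm (Fin 8)))) := by
  have : Fact (Nat.Prime 2) := ⟨Nat.prime_two⟩
  have e1 : W ≃* rel_perm.lift.range := MonoidHom.ofInjective perm_injective
  have e2 : (sylowPerm : Subgroup (Equiv.Perm (Fin 8))) ≃* (T : Subgroup (Equiv.Perm (Fin 8))) :=
    Sylow.equiv sylowPerm T
  exact ⟨e1.trans e2⟩

end Cfsg.Agent.H584.WrModel
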