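import Mathlib
import Cfsg.Agent.H584.WrSylow
import Cfsg.Agent.H584.WrRank

/-!
# Normalizers of the normal `2⁴`s of `D₈ ≀ C₂`

`ι : W →* S` injective, `S` a 2-group of sectional rank at most 4.
-/

set_option autoImplicit false

namespace Cfsg.Agent.H584.WrRank

open Subgroup Cfsg Cfsg.Agent.TwoFusion.SectionalRank Cfsg.Agent.H584.WrModel Cfsg.Agent.H584.WrModel.W

theorem rel_swap : Rel wb wa wt where
  aa := by decide +kernel
  bb := by decide +kernel
  tt := by decide +kernel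
  ab := by decide +kernel
  ac := by decide +kernel
  ad := by decide +kernel
  bc := by decide +kernel
  bd := by decide +kernel

/-- the automorphism of `W` interchanging `wa` and `wb` -/
def sig : W →* W := rel_swap.lift

theorem sig_injective : Function.Injective sig := by
  apply W.injective_of_ne
  rw [wz_eq, sig]
  simp only [map_mul, Rel.lift_a, Rel.lift_b, Rel.lift_t]
  decide +kernel

theorem map_sig : A0.map sig = B0 ∧ B0.map sig = A0 := by
  rcases map_AB sig_injective with ⟨h, -⟩ | h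
  · exfalso
    have h1 : sig wa ∈ A0.map sig := mem_map_of_mem sig (by rw [mem_A0]; decide +kernel)
    rw [h, sig, Rel.lift_a, mem_A0] at h1
    revert h1
    decide +kernel
  · exact h

theorem map_conj_A0 (g : W) : A0.map (MulAut.conj g).toMonoidHom = A0 := by
  apply Subgroup.eq_of_le_of_card_ge
  · rintro _ ⟨v, hv, rfl⟩
    exact mem_A0.2 (A0_conj g (mem_A0.1 hv))
  · rw [card_map_of_injective (MulAut.conj g).injective]

theorem map_conj_B0 (g : W) : B0.map (MulAut.conj g).toMonoidHom = B0 := by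
  apply Subgroup.eq_of_le_of_card_ge
  · rintro _ ⟨v, hv, rfl⟩
    exact mem_B0.2 (B0_conj g (mem_B0.1 hv))
  · rw [card_map_of_injective (MulAut.conj g).injective]

theorem exists_phi {S : Type*} [Group S] (ι : W →* S) (hι : Function.Injective ι) (x : S)
    (hx : ∀ p ∈ ι.range, x * p * x⁻¹ ∈ ι.range) :
    ∃ φ : W →* W, Function.Injective φ ∧ ∀ w, x * ι w * x⁻¹ = ι (φ w) := by
  have h1 : ∀ w, ∃ w', ι w' = x * ι w * x⁻¹ := fun w => hx _ ⟨w, rfl⟩
  choose φ hφ using h1
  refine ⟨MonoidHom.mk' φ ?_, ?_, ?_⟩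
  · intro v w
    apply hι
    rw [map_mul, hφ, hφ, hφ, map_mul]
    group
  · intro v w hvw
    have h2 : ι (φ v) = ι (φ w) := congrArg ι hvw
    rw [hφ, hφ] at h2
    exact hι (mul_left_cancel (mul_right_cancel h2))
  · intro w
    exact (hφ w).symm

theorem A0_le_J0 : A0 ≤ J0 := by
  intro w hw
  rw [mem_A0, inA_iff] at hw
  rw [mem_J0]
  have key : ∀ w ∈ listA, InJ w := by decide +kernel
  exact key w hw

theorem B0_le_J0 : B0 ≤ J0 := by
  intro w hw
  rw [mem_B0, inB_iff] at hw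
  rw [mem_J0]
  have key : ∀ w ∈ listB, InJ w := by decide +kernel
  exact key w hw

theorem phi_Z0 {φ : W →* W} (h1 : φ wz1 = wz1) (h2 : φ wz2 = wz2) {ζ : W} (hζ : ζ ∈ Z0) : φ ζ = ζ := by
  rcases Z0_cases hζ with rfl | rfl | rfl | rfl
  · exact map_one φ
  · exact h1
  · exact h2
  · rw [map_mul, h1, h2]

section

variable {S : Type*} [Group S] [Finite S] (h2 : IsPGroup 2 S) (hr : SectionalPRankLE 2 4 S)
  (ι : W →* S) (hι : Function.Injective ι)

include h2 hr hι

theorem cent_B (y : S) (hy : ∀ w ∈ B0, y * ι w = ι w * y) : y ∈ B0.map ι := by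
  have h1 := cent_A h2 hr (ι.comp sig) (hι.comp sig_injective) y (by
    intro w hw
    apply hy
    rw [← map_sig.1]
    exact mem_map_of_mem sig hw)
  rw [← Subgroup.map_map, map_sig.1] at h1
  exact h1

/-- The key contradiction. -/
theorem bad {x : S} (hx : x ∉ ι.range) {φ : W →* W} (hφ : ∀ w, x * ι w * x⁻¹ = ι (φ w))
    (hA : A0.map φ = A0) (hB : B0.map φ = B0) (hz1 : φ wz1 = wz1) (hz2 : φ wz2 = wz2) : False := by
  have mA : ∀ v ∈ A0, φ v ∈ A0 := fun v hv => by rw [← hA]; exact mem_map_of_mem φ hv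
  have mB : ∀ v ∈ B0, φ v ∈ B0 := fun v hv => by rw [← hB]; exact mem_map_of_mem φ hv
  have ia : wa ∈ A0 := by rw [mem_A0]; decide +kernel
  have ib : wb ∈ B0 := by rw [mem_B0]; decide +kernel
  have ic : wc ∈ A0 := by rw [mem_A0]; decide +kernel
  have id' : wd ∈ B0 := by rw [mem_B0]; decide +kernel
  have q := quad (mem_A0.1 (mA _ ia)) (mem_B0.1 (mB _ ib)) (mem_A0.1 (mA _ ic)) (mem_B0.1 (mB _ id'))
    (by rw [← map_mul, ← map_mul, show wa * wb * (wa * wb) = wz1 by decide +kernel, hz1])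
    (by rw [← map_mul, ← map_mul, show wc * wd * (wc * wd) = wz2 by decide +kernel, hz2])
    (by rw [← map_mul, ← map_mul, show wa * wd = wd * wa by decide +kernel])
    (by rw [← map_mul, ← map_mul, show wb * wc = wc * wb by decide +kernel])
  obtain ⟨qa, qb, qc, qd⟩ := q
  have hcomm : ∀ g : W, g * g = 1 → φ g * g ∈ Z0 → x * ι g * x⁻¹ * (ι g)⁻¹ ∈ Z0.map ι := by
    intro g hg h
    refine ⟨φ g * g, h, ?_⟩
    rw [map_mul, ← hφ]
    have : ι g = (ι g)⁻¹ := by
      rw [eq_inv_iff_mul_eq_one, ← map_mul, hg, map_one]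
    rw [← this]
  have hsq : ∀ g : W, g * g = 1 → φ g * g ∈ Z0 → φ (φ g) = g := by
    intro g hg h
    have h3 : φ g = (φ g * g) * g := by rw [mul_assoc, hg, mul_one]
    have h4 := phi_Z0 hz1 hz2 h
    have h5 : (φ g * g) * (φ g * g) = 1 := A0_sq (mem_A0.1 h.1)
    calc φ (φ g) = φ ((φ g * g) * g) := by rw [← h3]
      _ = φ (φ g * g) * φ g := map_mul _ _ _
      _ = (φ g * g) * φ g := by rw [h4]
      _ = (φ g * g) * ((φ g * g) * g) := by rw [← h3]
      _ = ((φ g * g) * (φ g * g)) * g := by group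
      _ = g := by rw [h5, one_mul]
  have eaa : wa * wa = 1 := by decide +kernel
  have ebb : wb * wb = 1 := by decide +kernel
  have ecc : wc * wc = 1 := by decide +kernel
  have edd : wd * wd = 1 := by decide +kernel
  have hJ : ∀ w ∈ J0, φ (φ w) = w := by
    intro w hw
    have h3 := J0_le hw
    have h4 : Set.EqOn (φ.comp φ) (MonoidHom.id W) (closure ({wa, wb, wc, wd} : Set W)) := by
      apply MonoidHom.eqOn_closure
      intro g hg
      simp only [Set.mem_insert_iff, Set.mem_singleton_iff] at hg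
      rcases hg with rfl | rfl | rfl | rfl
      · exact hsq _ eaa qa
      · exact hsq _ ebb qb
      · exact hsq _ ecc qc
      · exact hsq _ edd qd
    exact h4 h3
  have hxx : ∀ w ∈ J0, x * x * ι w = ι w * (x * x) := by
    intro w hw
    have h3 : x * (x * ι w * x⁻¹) * x⁻¹ = ι w := by rw [hφ, hφ, hJ w hw]
    calc x * x * ι w = (x * (x * ι w * x⁻¹) * x⁻¹) * (x * x) := by group
      _ = ι w * (x * x) := by rw [h3]
  obtain ⟨v, hv, hvx⟩ := cent_A h2 hr ι hι (x * x) (fun w hw => hxx w (A0_le_J0 hw))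
  have hvZ : v ∈ Z0 := by
    rw [mem_Z0]
    refine ⟨mem_A0.1 hv, ?_, ?_⟩
    · apply hι
      rw [map_mul, map_mul, hvx]
      exact hxx _ (B0_le_J0 ib)
    · apply hι
      rw [map_mul, map_mul, hvx]
      exact hxx _ (B0_le_J0 id')
  have hzc : ∀ g : W, φ g = g → x * ι g = ι g * x := by
    intro g hg
    have h3 := hφ g
    rw [hg] at h3
    exact mul_inv_eq_iff_eq_mul.1 h3
  obtain ⟨j, -, hj⟩ := no_fifth hr ι hι x (hcomm _ eaa qa) (hcomm _ ebb qb) (hcomm _ ecc qc) (hcomm _ edd qd)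
    (hzc _ hz1) (hzc _ hz2) ⟨v, hvZ, hvx⟩
  exact hx ⟨j, hj⟩

/-- Version where `x` may interchange the two central involutions. -/
theorem bad' {x : S} (hx : x ∉ ι.range) {φ : W →* W} (hinj : Function.Injective φ)
    (hφ : ∀ w, x * ι w * x⁻¹ = ι (φ w)) (hA : A0.map φ = A0) (hB : B0.map φ = B0) : False := by
  rcases map_wz1 hinj with ⟨h1, h3⟩ | ⟨h1, h3⟩
  · exact bad h2 hr ι hι hx hφ hA hB h1 h3
  · refine bad h2 hr ι hι (x := x * ι wt) (φ := φ.comp (MulAut.conj wt).toMonoidHom) ?_ ?_ ?_ ?_ ?_ ?_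
    · intro h
      exact hx ((Subgroup.mul_mem_cancel_right _ (show ι wt ∈ ι.range from ⟨wt, rfl⟩)).1 h)
    · intro w
      change _ = ι (φ (wt * w * wt⁻¹))
      rw [← hφ, map_mul, map_mul, map_inv]
      group
    · rw [← Subgroup.map_map, map_conj_A0, hA]
    · rw [← Subgroup.map_map, map_conj_B0, hB]
    · change φ (wt * wz1 * wt⁻¹) = wz1
      rw [show wt * wz1 * wt⁻¹ = wz2 by decide +kernel, h3]
    · change φ (wt * wz2 * wt⁻¹) = wz2
      rw [show wt * wz2 * wt⁻¹ = wz1 by decide +kernel, h1]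

/-- `N_S(A0) ≤ W` -/
theorem norm_A : normalizer ((A0.map ι : Subgroup S) : Set S) ≤ ι.range := by
  by_contra hne
  have hWM : ι.range ≤ normalizer ((A0.map ι : Subgroup S) : Set S) := by
    rintro _ ⟨g, rfl⟩
    rw [mem_normalizer_iff]
    intro h
    constructor
    · rintro ⟨v, hv, rfl⟩
      exact ⟨g * v * g⁻¹, mem_A0.2 (A0_conj g (mem_A0.1 hv)), by rw [map_mul, map_mul, map_inv]⟩
    · rintro ⟨v, hv, hvh⟩
      refine ⟨g⁻¹ * v * g, ?_, ?_⟩
      · have := mem_A0.2 (A0_conj g⁻¹ (mem_A0.1 hv))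
        rwa [inv_inv] at this
      · rw [map_mul, map_mul, hvh, map_inv]
        group
  obtain ⟨x, hxM, hxP, hxn, -⟩ := exists_normalizing h2 hWM hne
  obtain ⟨φ, hinj, hφ⟩ := exists_phi ι hι x hxn
  have hA : A0.map φ ≤ A0 := by
    rintro _ ⟨v, hv, rfl⟩
    have h3 := (mem_normalizer_iff.1 hxM (ι v)).1 (mem_map_of_mem ι hv)
    rw [hφ] at h3
    obtain ⟨w, hw, hwv⟩ := h3
    rw [← hι hwv]
    exact hw
  rcases map_AB hinj with ⟨h3, h4⟩ | ⟨h3, h4⟩
  · exact bad' h2 hr ι hι hxP hinj hφ h3 h4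
  · apply A0_ne_B0
    rw [h3] at hA
    exact (Subgroup.eq_of_le_of_card_ge hA (by rw [card_A0, card_B0])).symm

/-- `N_S(B0) ≤ W` -/
theorem norm_B : normalizer ((B0.map ι : Subgroup S) : Set S) ≤ ι.range := by
  have h1 := norm_A h2 hr (ι.comp sig) (hι.comp sig_injective)
  rw [← Subgroup.map_map, map_sig.1] at h1
  refine h1.trans ?_
  rintro _ ⟨w, rfl⟩
  exact ⟨sig w, rfl⟩

omit [Finite S] h2 hr hι in
theorem range_le_norm_A : ι.range ≤ normalizer ((A0.map ι : Subgroup S) : Set S) := by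
  rintro _ ⟨g, rfl⟩
  rw [mem_normalizer_iff]
  intro h
  constructor
  · rintro ⟨v, hv, rfl⟩
    exact ⟨g * v * g⁻¹, mem_A0.2 (A0_conj g (mem_A0.1 hv)), by rw [map_mul, map_mul, map_inv]⟩
  · rintro ⟨v, hv, hvh⟩
    refine ⟨g⁻¹ * v * g, ?_, ?_⟩
    · have := mem_A0.2 (A0_conj g⁻¹ (mem_A0.1 hv))
      rwa [inv_inv] at this
    · rw [map_mul, map_mul, hvh, map_inv]
      group

omit [Finite S] h2 hr hι in
theorem range_le_norm_B : ι.range ≤ normalizer ((B0.map ι : Subgroup S) : Set S) := by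
  rintro _ ⟨g, rfl⟩
  rw [mem_normalizer_iff]
  intro h
  constructor
  · rintro ⟨v, hv, rfl⟩
    exact ⟨g * v * g⁻¹, mem_B0.2 (B0_conj g (mem_B0.1 hv)), by rw [map_mul, map_mul, map_inv]⟩
  · rintro ⟨v, hv, hvh⟩
    refine ⟨g⁻¹ * v * g, ?_, ?_⟩
    · have := mem_B0.2 (B0_conj g⁻¹ (mem_B0.1 hv))
      rwa [inv_inv] at this
    · rw [map_mul, map_mul, hvh, map_inv]
      group

/-- an element of `N_S(W)` outside `W` interchanges `A0` and `B0` -/
theorem swaps {x : S} (hx : x ∉ ι.range) {φ : W →* W} (hinj : Function.Injective φ)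
    (hφ : ∀ w, x * ι w * x⁻¹ = ι (φ w)) : A0.map φ = B0 ∧ B0.map φ = A0 := by
  rcases map_AB hinj with ⟨h3, h4⟩ | h
  · exact absurd (bad' h2 hr ι hι hx hinj hφ h3 h4) id
  · exact h

/-- the centre of `S` -/
theorem center_eq : center S = zpowers (ι wz) := by
  have : Fact (Nat.Prime 2) := ⟨Nat.prime_two⟩
  have hz2 : ι wz * ι wz = 1 := by rw [← map_mul, show wz * wz = 1 by decide +kernel, map_one]
  have hz1 : ι wz ≠ 1 := by
    intro h
    rw [← map_one ι] at h
    have := hι h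
    revert this
    decide +kernel
  have h1 : center S ≤ zpowers (ι wz) := by
    intro x hx
    obtain ⟨v, hv, rfl⟩ := cent_A h2 hr ι hι x (fun w _ => ((mem_center_iff.1 hx) (ι w)).symm)
    rcases center_le v (by
      intro y
      apply hι
      rw [map_mul, map_mul]
      exact ((mem_center_iff.1 hx) (ι y)).symm) with h | h
    · rw [h, map_one]; exact one_mem _
    · rw [h]; exact mem_zpowers _
  have : Nontrivial S := ⟨⟨_, _, hz1⟩⟩
  have h3 := h2.center_nontrivial
  apply le_antisymm h1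
  apply (Subgroup.eq_of_le_of_card_ge h1 _).ge
  rw [Nat.card_zpowers, orderOf_eq_prime (p := 2) (by rw [pow_two, hz2]) hz1]
  exact Finite.one_lt_card

omit [Finite S] h2 hr in
theorem card_zpowers_wz : Nat.card (zpowers (ι wz)) = 2 := by
  have : Fact (Nat.Prime 2) := ⟨Nat.prime_two⟩
  have hz2 : ι wz * ι wz = 1 := by rw [← map_mul, show wz * wz = 1 by decide +kernel, map_one]
  have hz1 : ι wz ≠ 1 := by
    intro h
    rw [← map_one ι] at h
    have := hι h
    revert this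
    decide +kernel
  rw [Nat.card_zpowers]
  exact orderOf_eq_prime (by rw [pow_two, hz2]) hz1

end

end Cfsg.Agent.H584.WrRank
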